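import Mathlib
import Cfsg.Agent.Chars.RamifiedComplement
import Cfsg.Agent.Chars.IrrTools
import Cfsg.Agent.Chars.Constituent

/-!
# Characters over a fully ramified one: characters above `θ` on preimages of abelian subgroups

For a subgroup `A` of `G ⧸ Z` the characters of its preimage are handled as functions on the whole
group that vanish outside the preimage.
-/

set_option autoImplicit false
set_option linter.unusedSectionVars false
set_option linter.style.haveILetI false
set_option linter.style.openClassical false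

namespace Cfsg.Lib.RamSol

open scoped Classical ComplexConjugate
open Cfsg.Lib.Chars

universe u

variable {H : Type u} [Group H] [Fintype H] {Z : Subgroup H} [Z.Normal]

/-- A character `χ` fully ramified over the character `θ` of the normal subgroup `Z`. -/
structure Dat (Z : Subgroup H) [Z.Normal] where
  θ : Z → ℂ
  χ : H → ℂ
  e : ℕ
  hθ : Cfsg.IsIrrCharacter Z θ
  hχ : Cfsg.IsIrrCharacter H χ
  he : e * e = Z.index
  hres : (fun z : Z => χ z) = (e : ℂ) • θ

variable (d : Dat Z)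

/-- The preimage of a subgroup of the quotient. -/
abbrev pre (A : Subgroup (H ⧸ Z)) : Subgroup H := A.comap (QuotientGroup.mk' Z)

theorem le_pre (A : Subgroup (H ⧸ Z)) : Z ≤ pre A := fun z hz => by
  show QuotientGroup.mk' Z z ∈ A
  rw [show QuotientGroup.mk' Z z = 1 from (QuotientGroup.eq_one_iff z).2 hz]
  exact A.one_mem

/-- The projection of the preimage. -/
def proj (A : Subgroup (H ⧸ Z)) : pre A →* A where
  toFun u := ⟨QuotientGroup.mk' Z u, u.2⟩
  map_one' := Subtype.ext (map_one _)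
  map_mul' _ _ := Subtype.ext (map_mul _ _ _)

theorem card_pre (A : Subgroup (H ⧸ Z)) : Nat.card (pre A) = Nat.card Z * Nat.card A := by
  have hs : Function.Surjective (proj A) := by
    rintro ⟨a, ha⟩
    obtain ⟨u, rfl⟩ := QuotientGroup.mk'_surjective Z a
    exact ⟨⟨u, ha⟩, rfl⟩
  have hk : (proj A).ker = Z.subgroupOf (pre A) := by
    ext u
    rw [MonoidHom.mem_ker, Subgroup.mem_subgroupOf, Subtype.ext_iff]
    exact QuotientGroup.eq_one_iff (u : H)
  rw [Subgroup.card_eq_card_quotient_mul_card_subgroup (proj A).ker,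
    Nat.card_congr (QuotientGroup.quotientKerEquivOfSurjective _ hs).toEquiv, hk,
    Nat.card_congr (Subgroup.subgroupOfEquivOfLe (le_pre A)).toEquiv, mul_comm]

namespace Dat

include d

theorem e_ne : (d.e : ℂ) ≠ 0 := fun h => Z.index_ne_zero_of_finite (by rw [← d.he, Nat.cast_eq_zero.1 h])

theorem inv (h : H) : conjN Z h d.θ = d.θ := by
  have h1 := conjN_restrict (N := Z) (isClassFunction_isChar (isCharacter_of_irr d.hχ)) h
  rw [d.hres] at h1
  funext z
  exact mul_left_cancel₀ d.e_ne (congrFun h1 z)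

theorem sum_norm : ∑ z : Z, d.θ z * conj (d.θ z) = (Nat.card Z : ℂ) := by
  have h := classInner_self_irr d.hθ
  rw [classInner_def] at h
  have hc : ((Nat.card Z : ℕ) : ℂ) ≠ 0 := by exact_mod_cast Nat.card_pos.ne'
  field_simp at h
  exact h

theorem only {ψ : H → ℂ} (hψ : Cfsg.IsIrrCharacter H ψ)
    (hc : Cfsg.classInner (fun z : Z => ψ z) d.θ ≠ 0) : ψ = d.χ :=
  unique_over_of_ramified Z d.hθ d.inv d.hχ d.hres d.he ψ hψ hc

theorem off {h : H} (hh : h ∉ Z) : d.χ h = 0 := by
  have h1 := classInner_self_irr d.hχ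
  rw [classInner_def] at h1
  have hc : ((Nat.card H : ℕ) : ℂ) ≠ 0 := by exact_mod_cast Nat.card_pos.ne'
  have hsum : ∑ g : H, d.χ g * conj (d.χ g) = (Nat.card H : ℂ) := by
    field_simp at h1
    exact h1
  have hsplit := Finset.sum_filter_add_sum_filter_not Finset.univ (fun g => g ∈ Z) (fun g => d.χ g * conj (d.χ g))
  have hin : ∑ g ∈ Finset.univ.filter (· ∈ Z), d.χ g * conj (d.χ g) = (Nat.card H : ℂ) := by
    rw [Finset.sum_subtype (p := (· ∈ Z)) (Finset.univ.filter (· ∈ Z)) (by simp) (fun g => d.χ g * conj (d.χ g)),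
      show (∑ z : Z, d.χ z * conj (d.χ z)) = ∑ z : Z, ((d.e * d.e : ℕ) : ℂ) * (d.θ z * conj (d.θ z)) from
        Finset.sum_congr rfl fun z _ => by
          rw [show d.χ (z : H) = (d.e : ℂ) * d.θ z from congrFun d.hres z, map_mul, Complex.conj_natCast]
          push_cast; ring,
      ← Finset.mul_sum, d.sum_norm, d.he, ← Nat.cast_mul, mul_comm, Subgroup.card_mul_index]
  rw [hin, hsum] at hsplit
  have h0 : ∑ g ∈ Finset.univ.filter (fun g => ¬ g ∈ Z), d.χ g * conj (d.χ g) = 0 := by
    simpa using hsplit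
  simp only [Complex.mul_conj, ← Complex.ofReal_sum, Complex.ofReal_eq_zero] at h0
  rw [Finset.sum_eq_zero_iff_of_nonneg (fun x _ => Complex.normSq_nonneg _)] at h0
  exact Complex.normSq_eq_zero.1 (h0 h (by simp [hh]))

/-- An irreducible character of the preimage of `A` restricting to `m • θ`. -/
structure Over (A : Subgroup (H ⧸ Z)) (m : ℕ) (f : H → ℂ) : Prop where
  pos : 0 < m
  irr : Cfsg.IsIrrCharacter (pre A) (fun u : pre A => f u)
  zero : ∀ u, u ∉ pre A → f u = 0
  res : ∀ z : Z, f z = (m : ℂ) * d.θ z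

end Dat

/-- Conjugation of a function. -/
def cj (h : H) (f : H → ℂ) : H → ℂ := fun u => f (h * u * h⁻¹)

omit [Fintype H] in
theorem cj_mul (a b : H) (f : H → ℂ) : cj (a * b) f = cj b (cj a f) := by
  funext u
  simp only [cj]
  congr 1
  group

omit [Fintype H] in
theorem cj_one (f : H → ℂ) : cj 1 f = f := by
  funext u
  simp [cj]

/-- Twist by a linear character of the quotient subgroup. -/
noncomputable def tw {A : Subgroup (H ⧸ Z)} (l : A →* ℂˣ) (f : H → ℂ) : H → ℂ :=
  fun u => if hu : QuotientGroup.mk' Z u ∈ A then (l ⟨_, hu⟩ : ℂ) * f u else 0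

theorem tw_one {A : Subgroup (H ⧸ Z)} {f : H → ℂ} (h0 : ∀ u, u ∉ pre A → f u = 0) : tw (1 : A →* ℂˣ) f = f := by
  funext u
  simp only [tw]
  split_ifs with hu
  · simp
  · exact (h0 u hu).symm

theorem tw_mul {A : Subgroup (H ⧸ Z)} (k l : A →* ℂˣ) (f : H → ℂ) : tw k (tw l f) = tw (k * l) f := by
  funext u
  simp only [tw]
  split_ifs with hu
  · simp [mul_assoc]
  · rfl

/-- Orthogonality for linear characters. -/
theorem sum_linear {A : Type u} [CommGroup A] [Finite A] [Fintype (A →* ℂˣ)] (a : A) :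
    ∑ l : A →* ℂˣ, (l a : ℂ) = if a = 1 then (Nat.card A : ℂ) else 0 := by
  split_ifs with ha
  · subst ha
    obtain ⟨e⟩ := CommGroup.monoidHom_mulEquiv_of_hasEnoughRootsOfUnity A ℂ
    simp only [map_one, Units.val_one, Finset.sum_const, nsmul_eq_mul, mul_one, Finset.card_univ]
    rw [← Nat.card_eq_fintype_card, Nat.card_congr e.toEquiv]
  · obtain ⟨k, hk⟩ := CommGroup.exists_apply_ne_one_of_hasEnoughRootsOfUnity A ℂ ha
    have h1 : (k a : ℂ) * ∑ l : A →* ℂˣ, (l a : ℂ) = ∑ l : A →* ℂˣ, (l a : ℂ) := by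
      rw [Finset.mul_sum, ← Equiv.sum_comp (Equiv.mulLeft k) (fun l : A →* ℂˣ => (l a : ℂ))]
      exact Finset.sum_congr rfl fun l _ => by simp
    have h2 : ((k a : ℂ) - 1) * ∑ l : A →* ℂˣ, (l a : ℂ) = 0 := by rw [sub_mul, one_mul, h1, sub_self]
    rcases mul_eq_zero.1 h2 with h | h
    · exact absurd (Units.ext (sub_eq_zero.1 h)) hk
    · exact h

instance finite_linear {A : Subgroup (H ⧸ Z)} [IsMulCommutative A] : Finite (A →* ℂˣ) := by
  open scoped IsMulCommutative in
  obtain ⟨e⟩ := CommGroup.monoidHom_mulEquiv_of_hasEnoughRootsOfUnity A ℂ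
  exact Finite.of_equiv _ e.toEquiv.symm

theorem card_linear {A : Subgroup (H ⧸ Z)} [IsMulCommutative A] : Nat.card (A →* ℂˣ) = Nat.card A := by
  open scoped IsMulCommutative in
  obtain ⟨e⟩ := CommGroup.monoidHom_mulEquiv_of_hasEnoughRootsOfUnity A ℂ
  exact Nat.card_congr e.toEquiv

namespace Dat

variable {d} {A : Subgroup (H ⧸ Z)} {m m' : ℕ} {f f' : H → ℂ}

theorem Over.exists (d : Dat Z) (A : Subgroup (H ⧸ Z)) : ∃ m f, d.Over A m f := by
  have hc : Cfsg.classInner (fun z : Z => d.χ z) d.θ ≠ 0 := by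
    rw [d.hres, classInner_smul_left, classInner_self_irr d.hθ, mul_one]
    exact d.e_ne
  obtain ⟨ψ, hψ, -, hψc⟩ := exists_constituent_over (pre A) (le_pre A) (isCharacter_of_irr d.hχ) hc
  obtain ⟨m, hm, hres⟩ := restrict_of_le_inertia Z d.hθ (pre A) (le_pre A)
    (fun g _ => mem_inertia.2 (d.inv g)) hψ hψc
  refine ⟨m, fun u => if hu : u ∈ pre A then ψ ⟨u, hu⟩ else 0, hm, ?_, fun u hu => dif_neg hu, fun z => ?_⟩
  · rw [show (fun u : pre A => if hu : (u : H) ∈ pre A then ψ ⟨u, hu⟩ else 0) = ψ from funext fun u => dif_pos u.2]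
    exact hψ
  · show (if hu : (z : H) ∈ pre A then ψ ⟨z, hu⟩ else 0) = _
    rw [dif_pos (le_pre A z.2)]
    exact congrFun hres z

theorem Over.twist (hf : d.Over A m f) (l : A →* ℂˣ) : d.Over A m (tw l f) := by
  refine ⟨hf.pos, ?_, fun u hu => dif_neg hu, fun z => ?_⟩
  · rw [show (fun u : pre A => tw l f u) = fun u : pre A => ((l.comp (proj A)) u : ℂ) * f u from
      funext fun u => dif_pos u.2]
    exact IsIrrCharacter.mul_linear hf.irr _
  · show tw l f (z : H) = _
    rw [tw, dif_pos (show QuotientGroup.mk' Z (z : H) ∈ A from le_pre A z.2), hf.res z,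
      show (⟨QuotientGroup.mk' Z (z : H), le_pre A z.2⟩ : A) = 1 from Subtype.ext ((QuotientGroup.eq_one_iff (z : H)).2 z.2),
      map_one, Units.val_one, one_mul]

theorem Over.self_conj (hf : d.Over A m f) {h : H} (hh : QuotientGroup.mk' Z h ∈ A) : cj h f = f := by
  funext u
  by_cases hu : u ∈ pre A
  · exact isClassFunction_isChar (isCharacter_of_irr hf.irr) ⟨u, hu⟩ ⟨h, hh⟩
  · rw [hf.zero u hu]
    exact hf.zero _ fun hm => hu (by
      have := (pre A).mul_mem ((pre A).mul_mem ((pre A).inv_mem hh) hm) hh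
      simpa [mul_assoc] using this)

theorem mem_pre_conj {h : H} (hh : QuotientGroup.mk' Z h ∈ Subgroup.normalizer (A : Set (H ⧸ Z))) (u : H) :
    h * u * h⁻¹ ∈ pre A ↔ u ∈ pre A := by
  show QuotientGroup.mk' Z (h * u * h⁻¹) ∈ A ↔ QuotientGroup.mk' Z u ∈ A
  rw [map_mul, map_mul, map_inv]
  exact (Subgroup.mem_normalizer_iff.1 hh _).symm

theorem Over.conj (hf : d.Over A m f) {h : H}
    (hh : QuotientGroup.mk' Z h ∈ Subgroup.normalizer (A : Set (H ⧸ Z))) : d.Over A m (cj h f) := by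
  refine ⟨hf.pos, ?_, fun u hu => hf.zero _ fun hm => hu ((mem_pre_conj hh u).1 hm), fun z => ?_⟩
  · let c : pre A ≃* pre A :=
      { toFun := fun u => ⟨h * u * h⁻¹, (mem_pre_conj hh u).2 u.2⟩
        invFun := fun u => ⟨h⁻¹ * u * h, (mem_pre_conj hh _).1 (by simpa [mul_assoc] using u.2)⟩
        left_inv := fun u => Subtype.ext (by simp [mul_assoc])
        right_inv := fun u => Subtype.ext (by simp [mul_assoc])
        map_mul' := fun a b => Subtype.ext (by simp [mul_assoc]) }
    exact IsIrrCharacter.comp_mulEquiv hf.irr c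
  · show f (h * z * h⁻¹) = _
    have h1 := hf.res ⟨h * z * h⁻¹, Subgroup.Normal.conj_mem inferInstance _ z.2 h⟩
    rw [h1, show d.θ ⟨h * z * h⁻¹, _⟩ = d.θ z from congrFun (d.inv h) z]

theorem Over.congr (hf : d.Over A m f) {a b : H} (hab : QuotientGroup.mk' Z a = QuotientGroup.mk' Z b) :
    cj a f = cj b f := by
  have h1 : QuotientGroup.mk' Z (b * a⁻¹) ∈ A := by
    rw [map_mul, map_inv, hab, mul_inv_cancel]; exact A.one_mem
  have h2 := cj_mul (b * a⁻¹) a f
  rw [inv_mul_cancel_right, hf.self_conj h1] at h2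
  exact h2.symm

variable [IsMulCommutative A] [Fintype (A →* ℂˣ)]

/-- The basic orthogonality relation. -/
theorem Over.sum_inner (hf : d.Over A m f) (hf' : d.Over A m' f') :
    ∑ l : A →* ℂˣ, Cfsg.classInner (fun u : pre A => tw l f u) (fun u : pre A => f' u) = ((m * m' : ℕ) : ℂ) := by
  open scoped IsMulCommutative in
  simp only [classInner_def]
  rw [← Finset.mul_sum, Finset.sum_comm]
  have hin : ∀ u : pre A, ∑ l : A →* ℂˣ, tw l f u * conj (f' u) =
      if (u : H) ∈ Z then (Nat.card A : ℂ) * (f u * conj (f' u)) else 0 := fun u => by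
    rw [show ∑ l : A →* ℂˣ, tw l f u * conj (f' u) = ∑ l : A →* ℂˣ, (l (proj A u) : ℂ) * (f u * conj (f' u)) from
      Finset.sum_congr rfl fun l _ => by
        rw [tw, dif_pos (show QuotientGroup.mk' Z (u : H) ∈ A from u.2), mul_assoc]; rfl,
      ← Finset.sum_mul, sum_linear]
    have hiff : proj A u = 1 ↔ (u : H) ∈ Z := by
      rw [Subtype.ext_iff]; exact QuotientGroup.eq_one_iff (u : H)
    by_cases hu : (u : H) ∈ Z
    · rw [if_pos hu, if_pos (hiff.2 hu)]
    · rw [if_neg hu, if_neg (fun h => hu (hiff.1 h)), zero_mul]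
  rw [Finset.sum_congr rfl fun u _ => hin u, ← Finset.sum_filter]
  rw [show ∑ u ∈ Finset.univ.filter (fun u : pre A => (u : H) ∈ Z), (Nat.card A : ℂ) * (f u * conj (f' u)) =
      ∑ z : Z, (Nat.card A : ℂ) * (f z * conj (f' z)) from
    Finset.sum_bij' (fun u hu => (⟨u, (Finset.mem_filter.1 hu).2⟩ : Z))
      (fun z _ => (⟨z, le_pre A z.2⟩ : pre A)) (fun _ _ => Finset.mem_univ _)
      (fun z _ => Finset.mem_filter.2 ⟨Finset.mem_univ _, z.2⟩) (fun _ _ => rfl) (fun _ _ => rfl) (fun _ _ => rfl)]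
  rw [show ∑ z : Z, (Nat.card A : ℂ) * (f z * conj (f' z)) =
      ∑ z : Z, ((Nat.card A * (m * m') : ℕ) : ℂ) * (d.θ z * conj (d.θ z)) from
    Finset.sum_congr rfl fun z _ => by
      rw [hf.res, hf'.res, map_mul, Complex.conj_natCast]; push_cast; ring,
    ← Finset.mul_sum, d.sum_norm, card_pre]
  have h1 : (Nat.card Z : ℂ) ≠ 0 := by exact_mod_cast Nat.card_pos.ne'
  have h2 : (Nat.card A : ℂ) ≠ 0 := by exact_mod_cast Nat.card_pos.ne'
  push_cast
  field_simp

theorem Over.inner_eq (hf : d.Over A m f) (hf' : d.Over A m' f') (l : A →* ℂˣ) :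
    Cfsg.classInner (fun u : pre A => tw l f u) (fun u : pre A => f' u) = if tw l f = f' then 1 else 0 := by
  rw [classInner_irrChar (hf.twist l).irr hf'.irr]
  refine if_congr ⟨fun h => ?_, fun h => by rw [h]⟩ rfl rfl
  funext u
  by_cases hu : u ∈ pre A
  · exact congrFun h ⟨u, hu⟩
  · rw [(hf.twist l).zero u hu, hf'.zero u hu]

theorem Over.card_fix (hf : d.Over A m f) :
    (Finset.univ.filter fun l : A →* ℂˣ => tw l f = f).card = m * m := by
  have h := hf.sum_inner hf
  rw [Finset.sum_congr rfl fun l _ => hf.inner_eq hf l, Finset.sum_boole] at h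
  exact_mod_cast h

theorem Over.exists_tw (hf : d.Over A m f) (hf' : d.Over A m' f') : ∃ l : A →* ℂˣ, tw l f = f' := by
  by_contra hno
  push Not at hno
  have h := hf.sum_inner hf'
  rw [Finset.sum_eq_zero fun l _ => by rw [hf.inner_eq hf' l, if_neg (hno l)]] at h
  exact (Nat.mul_pos hf.pos hf'.pos).ne (by exact_mod_cast h)

theorem Over.mult_eq (hf : d.Over A m f) (hf' : d.Over A m' f') : m' = m := by
  obtain ⟨l, rfl⟩ := hf.exists_tw hf'
  have hz : Cfsg.classInner (fun z : Z => tw l f z) d.θ = (m : ℂ) := by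
    rw [show (fun z : Z => tw l f z) = (m : ℂ) • d.θ from funext (hf.twist l).res, classInner_smul_left,
      classInner_self_irr d.hθ, mul_one]
  rw [show (fun z : Z => tw l f z) = (m' : ℂ) • d.θ from funext hf'.res, classInner_smul_left,
    classInner_self_irr d.hθ, mul_one] at hz
  exact_mod_cast hz

/-- For an extension the twists are distinct. -/
theorem Over.tw_inj (hf : d.Over A 1 f) {k l : A →* ℂˣ} (h : tw k f = tw l f) : k = l := by
  have h1 := congrArg (tw k⁻¹) h
  rw [tw_mul, tw_mul, (inv_mul_cancel k : k⁻¹ * k = 1), tw_one hf.zero] at h1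
  have hc : (Finset.univ.filter fun j : A →* ℂˣ => tw j f = f).card ≤ 1 := hf.card_fix.le
  have e := Finset.card_le_one.1 hc (k⁻¹ * l) (Finset.mem_filter.2 ⟨Finset.mem_univ _, h1.symm⟩) 1
    (Finset.mem_filter.2 ⟨Finset.mem_univ _, tw_one hf.zero⟩)
  refine MonoidHom.ext fun a => ?_
  have h2 := DFunLike.congr_fun e a
  simp only [MonoidHom.mul_apply, MonoidHom.inv_apply, MonoidHom.one_apply, inv_mul_eq_one] at h2
  exact h2

end Dat

end Cfsg.Lib.RamSol
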