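import Mathlib
import Cfsg.Agent.Coprime.Action
import Cfsg.Agent.Chars.IsaacsItoPrimePower
import Cfsg.Agent.Coprime.CommutatorFixedGeneration

/-!
# Local structure of a group with a nonabelian simple subnormal section `M/R`
-/

set_option autoImplicit false
set_option linter.unusedSectionVars false
set_option linter.style.haveILetI false

namespace Cfsg.Lib.RamSol

open Subgroup
open scoped commutatorElement Pointwise

universe u

variable {G : Type u} [Group G] [Finite G] {p : ℕ} [hp : Fact p.Prime]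

theorem not_dvd_inf {P X C : Subgroup G} (hPp : IsPGroup p P) (hPX : P ≤ X) (hCX : C ≤ X)
    (hXC : X ≤ normalizer (C : Set G)) (hi : ¬ p ∣ P.relIndex X) : ¬ p ∣ (P ⊓ C).relIndex C := by
  have h1 : IsPGroup p (P.subgroupOf X) := IsPGroup.of_equiv hPp (subgroupOfEquivOfLe hPX).symm
  let S : Sylow p X := IsPGroup.toSylow h1 hi
  haveI : (C.subgroupOf X).Normal := (normal_subgroupOf_iff_le_normalizer hCX).2 hXC
  obtain ⟨SK, hSK⟩ := Cfsg.Lib.Chars.sylow_inf_normal S (C.subgroupOf X)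
  have h2 := SK.not_dvd_index
  rw [hSK] at h2
  rwa [inf_relIndex_right, ← relIndex_subgroupOf (H := P) hCX]

/-- A simple nonabelian section `M/R` with `R` normal and `N(M)` containing the centralizers of the elements of `M \ R`. -/
structure Sec (G : Type u) [Group G] where
  R : Subgroup G
  M : Subgroup G
  hR : R.Normal
  hRM : R ≤ M
  simple : ∀ N : Subgroup G, R ≤ N → N ≤ M → M ≤ normalizer (N : Set G) → N = R ∨ N = M
  perf : ⁅M, M⁆ ⊔ R = M
  ne : R ≠ M
  hT : ∀ x ∈ M, x ∉ R → centralizer (zpowers x : Set G) ≤ normalizer (M : Set G)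

namespace Sec

variable (c : Sec G)

/-- The natural projection. -/
abbrev f : G →* G ⧸ (c.R.normalCore) := QuotientGroup.mk' _

theorem core_eq : c.R.normalCore = c.R := by
  haveI := c.hR
  exact normalCore_eq_self c.R

theorem f_eq_one {x : G} : c.f x = 1 ↔ x ∈ c.R := by
  show QuotientGroup.mk' _ x = 1 ↔ _
  rw [QuotientGroup.mk'_apply, QuotientGroup.eq_one_iff, c.core_eq]

theorem map_eq_of_sup {C : Subgroup G} (h : C ⊔ c.R = c.M) : C.map c.f = c.M.map c.f := by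
  rw [← h, Subgroup.map_sup, sup_eq_left.2]
  refine le_trans ?_ bot_le
  rintro _ ⟨r, hr, rfl⟩
  exact mem_bot.2 (c.f_eq_one.2 hr)

/-- A normal subgroup of a subgroup covering `M/R` either covers it or lies in `R`. -/
theorem cover_or_le {N C : Subgroup G} (hN : N ⊔ c.R = c.M) (hCN : C ≤ N) (hn : N ≤ normalizer (C : Set G)) :
    C ⊔ c.R = c.M ∨ C ≤ c.R := by
  haveI := c.hR
  have hsn : c.M ≤ normalizer ((C ⊔ c.R : Subgroup G) : Set G) := by
    intro x hx
    rw [← hN] at hx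
    obtain ⟨n, hnn, r, hr, rfl⟩ := mem_sup_of_normal_right.1 hx
    refine mul_mem ?_ (le_normalizer (mem_sup_right hr))
    exact Cfsg.Lib.Coprime.le_normalizer_sup hn
      (by intro y _; rw [normalizer_eq_top]; exact mem_top y) hnn
  rcases c.simple (C ⊔ c.R) le_sup_right (sup_le ((hCN.trans le_sup_left).trans hN.le) c.hRM) hsn with h | h
  · exact Or.inr (h ▸ le_sup_left)
  · exact Or.inl h

omit [Finite G] in
theorem le_normalizer_centralizer {A : Subgroup G} :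
    normalizer (A : Set G) ≤ normalizer ((centralizer (A : Set G) : Subgroup G) : Set G) := by
  intro y hy
  refine Cfsg.Lib.Coprime.mem_normalizer_of_conj_mem (fun x hx => ?_) (fun x hx => ?_)
  · rw [mem_centralizer_iff] at hx ⊢
    intro q hq
    have := hx (y⁻¹ * q * y) (by simpa using (mem_normalizer_iff.1 (inv_mem hy) q).1 hq)
    calc q * (y * x * y⁻¹) = y * (y⁻¹ * q * y * x) * y⁻¹ := by group
      _ = y * (x * (y⁻¹ * q * y)) * y⁻¹ := by rw [this]
      _ = y * x * y⁻¹ * q := by group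
  · rw [mem_centralizer_iff] at hx ⊢
    intro q hq
    have := hx (y * q * y⁻¹) ((mem_normalizer_iff.1 hy q).1 hq)
    calc q * (y⁻¹ * x * y) = y⁻¹ * (y * q * y⁻¹ * x) * y := by group
      _ = y⁻¹ * (x * (y * q * y⁻¹)) * y := by rw [this]
      _ = y⁻¹ * x * y * q := by group

variable {P : Subgroup G}

/-- Conditions on a Sylow subgroup of `N(M)`. -/
structure Syl (c : Sec G) (p : ℕ) (P : Subgroup G) : Prop where
  pgp : IsPGroup p P
  le : P ≤ normalizer (c.M : Set G)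
  idx : ¬ p ∣ P.relIndex (normalizer (c.M : Set G))

variable {c}

theorem Syl.idx_of (h : Syl c p P) {X : Subgroup G} (hPX : P ≤ X) (hX : X ≤ normalizer (c.M : Set G)) :
    ¬ p ∣ P.relIndex X := fun hd => h.idx (hd.trans (Dvd.intro _ (relIndex_mul_relIndex P X _ hPX hX)))

theorem Syl.inf_idx (h : Syl c p P) {C : Subgroup G} (hC : C ≤ c.M) (hPC : P ≤ normalizer (C : Set G)) :
    ¬ p ∣ (P ⊓ C).relIndex C :=
  not_dvd_inf (X := P ⊔ C) h.pgp le_sup_left le_sup_right (sup_le hPC le_normalizer)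
    (h.idx_of le_sup_left (sup_le h.le (hC.trans le_normalizer)))

theorem Syl.im_eq (h : Syl c p P) {C : Subgroup G} (hC : C ⊔ c.R = c.M) (hPC : P ≤ normalizer (C : Set G)) :
    (P ⊓ C).map c.f = (P ⊓ c.M).map c.f := by
  have hCM : C ≤ c.M := hC ▸ le_sup_left
  have hle : (P ⊓ C).map c.f ≤ (P ⊓ c.M).map c.f := map_mono (inf_le_inf_left _ hCM)
  refine le_antisymm hle (relIndex_eq_one.1 ?_)
  obtain ⟨k, hk⟩ : ∃ k, ((P ⊓ C).map c.f).relIndex ((P ⊓ c.M).map c.f) = p ^ k := by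
    obtain ⟨i, hi⟩ := IsPGroup.iff_card.1 ((h.pgp.to_le (inf_le_left : P ⊓ c.M ≤ P)).map c.f)
    obtain ⟨k, -, hk⟩ := (Nat.dvd_prime_pow hp.out).1
      (hi ▸ (index_dvd_card _ : ((P ⊓ C).map c.f).relIndex ((P ⊓ c.M).map c.f) ∣ Nat.card ((P ⊓ c.M).map c.f)))
    exact ⟨k, hk⟩
  refine Nat.eq_one_of_dvd_coprimes
    (((Nat.Prime.coprime_iff_not_dvd hp.out).2 (h.inf_idx hCM hPC)).pow_left k) hk.dvd ?_
  have h1 : ((P ⊓ C).map c.f).relIndex (C.map c.f) ∣ (P ⊓ C).relIndex C := by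
    have e : ((P ⊓ C).subgroupOf C).map (c.f.subgroupMap C) = ((P ⊓ C).map c.f).subgroupOf (C.map c.f) := by
      ext ⟨y, hy⟩
      constructor
      · rintro ⟨⟨x, hx⟩, hxP, hxy⟩
        exact ⟨x, hxP, congrArg Subtype.val hxy⟩
      · rintro ⟨x, hx, hxy⟩
        exact ⟨⟨x, hx.2⟩, hx, Subtype.ext hxy⟩
    show (((P ⊓ C).map c.f).subgroupOf (C.map c.f)).index ∣ ((P ⊓ C).subgroupOf C).index
    rw [← e]
    exact index_map_dvd _ (c.f.subgroupMap_surjective C)
  refine dvd_trans ?_ h1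
  rw [c.map_eq_of_sup hC]
  exact Dvd.intro _ (relIndex_mul_relIndex _ _ _ hle (map_mono inf_le_right))

/-- The centralizer of `P ∩ R` in `M`. -/
abbrev C₀ (c : Sec G) (P : Subgroup G) : Subgroup G := c.M ⊓ centralizer ((P ⊓ c.R : Subgroup G) : Set G)

theorem Syl.le_norm_inf (h : Syl c p P) : P ≤ normalizer ((P ⊓ c.R : Subgroup G) : Set G) := by
  refine Cfsg.Lib.Coprime.le_normalizer_inf le_normalizer ?_
  haveI := c.hR
  intro y _
  rw [normalizer_eq_top]
  exact mem_top y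

theorem Syl.le_norm_C0 (h : Syl c p P) : P ≤ normalizer (C₀ c P : Set G) := by
  exact Cfsg.Lib.Coprime.le_normalizer_inf h.le (h.le_norm_inf.trans le_normalizer_centralizer)

/-- Frattini: `N_M(P ∩ R)` covers `M/R`. -/
theorem Syl.frattini_M (h : Syl c p P) :
    (c.M ⊓ normalizer ((P ⊓ c.R : Subgroup G) : Set G)) ⊔ c.R = c.M := by
  haveI := c.hR
  refine le_antisymm (sup_le inf_le_left c.hRM) fun m hm => ?_
  have hidx : ¬ p ∣ (P ⊓ c.R).relIndex c.R := h.inf_idx c.hRM (by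
    intro y _; rw [normalizer_eq_top]; exact mem_top y)
  let S : Sylow p c.R := IsPGroup.toSylow
    (IsPGroup.of_equiv (h.pgp.to_le inf_le_left) (subgroupOfEquivOfLe (inf_le_right : P ⊓ c.R ≤ c.R)).symm) hidx
  have hS : (S : Subgroup c.R).map c.R.subtype = P ⊓ c.R := by
    rw [show (S : Subgroup c.R) = (P ⊓ c.R).subgroupOf c.R from rfl, subgroupOf_map_subtype, inf_assoc, inf_idem]
  have htop := Sylow.normalizer_sup_eq_top S
  rw [hS] at htop
  obtain ⟨a, ha, r, hr, rfl⟩ := mem_sup_of_normal_right.1 (htop ▸ mem_top m)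
  refine mul_mem_sup ⟨?_, ha⟩ hr
  have := c.M.mul_mem hm (c.M.inv_mem (c.hRM hr))
  rwa [mul_inv_cancel_right] at this

theorem Syl.dichotomy (h : Syl c p P) : C₀ c P ⊔ c.R = c.M ∨ C₀ c P ≤ c.R := by
  refine c.cover_or_le h.frattini_M (inf_le_inf_left _ (centralizer_le_normalizer _)) ?_
  exact Cfsg.Lib.Coprime.le_normalizer_inf (inf_le_left.trans le_normalizer)
    (inf_le_right.trans le_normalizer_centralizer)

section Main

variable (h : Syl c p P) (hC : C₀ c P ⊔ c.R = c.M)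
  (hab : ∀ a ∈ P ⊓ C₀ c P, ∀ b ∈ P ⊓ C₀ c P, a * b = b * a)

include h hC hab

/-- The Sylow image is generated by the commutators with the automizer. -/
theorem Syl.focal_im {D : Subgroup (G ⧸ c.R.normalCore)}
    (hD : ∀ v ∈ P ⊓ C₀ c P, ∀ n ∈ C₀ c P ⊓ normalizer ((P ⊓ C₀ c P : Subgroup G) : Set G),
      c.f (v⁻¹ * (n * v * n⁻¹)) ∈ D) :
    (P ⊓ c.M).map c.f ≤ D := by
  haveI := c.hR
  set C := C₀ c P
  set C' := ⁅C, C⁆
  have hC'C : C' ≤ C := commutator_le_self C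
  have hCn : C ≤ normalizer (C' : Set G) := normalizer_commutator_ge_left C C
  have hC' : C' ⊔ c.R = c.M := by
    refine le_antisymm (sup_le (hC'C.trans inf_le_left) c.hRM) ?_
    calc c.M = ⁅c.M, c.M⁆ ⊔ c.R := c.perf.symm
      _ ≤ C' ⊔ c.R := sup_le ?_ le_sup_right
    rw [commutator_le]
    intro a ha b hb
    rw [← hC] at ha hb
    obtain ⟨a', ha', r, hr, rfl⟩ := mem_sup_of_normal_right.1 ha
    obtain ⟨b', hb', s, hs, rfl⟩ := mem_sup_of_normal_right.1 hb
    have h1 : QuotientGroup.mk' c.R ⁅a' * r, b' * s⁆ = QuotientGroup.mk' c.R ⁅a', b'⁆ := by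
      simp only [map_commutatorElement, map_mul]
      rw [show QuotientGroup.mk' c.R r = 1 from (QuotientGroup.eq_one_iff r).2 hr,
        show QuotientGroup.mk' c.R s = 1 from (QuotientGroup.eq_one_iff s).2 hs, mul_one, mul_one]
    rw [QuotientGroup.mk'_apply, QuotientGroup.mk'_apply, eq_comm, QuotientGroup.eq] at h1
    have h2 := mul_mem_sup (commutator_mem_commutator ha' hb') h1
    rwa [mul_inv_cancel_left] at h2
  have hPC' : P ≤ normalizer (C' : Set G) :=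
    Cfsg.Lib.CommFixedGen.le_normalizer_commutator h.le_norm_C0 h.le_norm_C0
  rw [← h.im_eq hC' hPC']
  rintro _ ⟨v, ⟨hvP, hvC⟩, rfl⟩
  let S : Sylow p C := IsPGroup.toSylow
    (IsPGroup.of_equiv (h.pgp.to_le inf_le_left) (subgroupOfEquivOfLe (inf_le_right : P ⊓ C ≤ C)).symm)
    (h.inf_idx inf_le_left h.le_norm_C0)
  haveI : IsMulCommutative (S : Subgroup C) :=
    ⟨⟨fun a b => Subtype.ext (Subtype.ext (hab _ a.2 _ b.2))⟩⟩
  have hv : (⟨v, hC'C hvC⟩ : C) ∈ _root_.commutator C ⊓ (S : Subgroup C) := by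
    refine ⟨?_, ⟨hvP, hC'C hvC⟩⟩
    have : C' = (_root_.commutator C).map C.subtype := (map_subtype_commutator C).symm
    rw [this] at hvC
    obtain ⟨w, hw, hwv⟩ := hvC
    rwa [show (⟨v, hC'C (this ▸ ⟨w, hw, hwv⟩)⟩ : C) = w from Subtype.ext hwv.symm]
  rw [commutator_inf_eq_focalSubgroup S, focalSubgroup_def] at hv
  suffices hle : closure {g : C | g ∈ (S : Subgroup C) ∧ ∃ x ∈ (S : Subgroup C), ∃ u : C, g = ⁅x, u⁆} ≤
      D.comap (c.f.comp C.subtype) from hle hv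
  rw [closure_le]
  rintro g ⟨hg, x, hx, u, rfl⟩
  have hu : u * x⁻¹ * u⁻¹ ∈ (S : Subgroup C) := by
    have := mul_mem (inv_mem hx) hg
    rwa [commutatorElement_def, show x⁻¹ * (x * u * x⁻¹ * u⁻¹) = u * x⁻¹ * u⁻¹ by group] at this
  obtain ⟨n, hn, hne⟩ := S.conj_eq_normalizer_conj_of_mem x⁻¹ u⁻¹ (inv_mem hx) (by rw [inv_inv]; exact hu)
  have hmem : ((n : C) : G)⁻¹ ∈ C ⊓ normalizer ((P ⊓ C : Subgroup G) : Set G) := by
    refine ⟨C.inv_mem n.2, (normalizer ((P ⊓ C : Subgroup G) : Set G)).inv_mem (mem_normalizer_iff.2 fun z => ?_)⟩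
    constructor
    · intro hz
      exact (mem_normalizer_iff.1 hn ⟨z, hz.2⟩).1 hz
    · intro hz
      have hzC : z ∈ C := by
        have := C.mul_mem (C.mul_mem (C.inv_mem n.2) hz.2) n.2
        simpa [mul_assoc] using this
      exact (mem_normalizer_iff.1 hn ⟨z, hzC⟩).2 hz
  have h3 := hD _ (show ((x⁻¹ : C) : G) ∈ P ⊓ C from inv_mem hx) _ hmem
  show c.f ((⁅x, u⁆ : C) : G) ∈ D
  convert h3 using 2
  have e : (u : G) * (x : G)⁻¹ * (u : G)⁻¹ = (n : G)⁻¹ * (x : G)⁻¹ * (n : G) := by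
    simpa using congrArg Subtype.val hne
  calc ((⁅x, u⁆ : C) : G) = (x : G) * ((u : G) * (x : G)⁻¹ * (u : G)⁻¹) := by
        simp [commutatorElement_def, mul_assoc]
    _ = _ := by rw [e]; simp [mul_assoc]

/-- Automizing elements can be taken in `N(P)`. -/
theorem Syl.lift
    (hcomm : ∀ a ∈ P, ∀ n ∈ C₀ c P ⊓ normalizer ((P ⊓ C₀ c P : Subgroup G) : Set G), ∀ v ∈ P ⊓ C₀ c P,
      c.f (a * n * v * n⁻¹ * a⁻¹) = c.f (n * a * v * a⁻¹ * n⁻¹))
    {n : G} (hn : n ∈ C₀ c P ⊓ normalizer ((P ⊓ C₀ c P : Subgroup G) : Set G)) :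
    ∃ g ∈ C₀ c P, g ∈ normalizer (P : Set G) ∧
      ∀ v ∈ P ⊓ C₀ c P, c.f (g * v * g⁻¹) = c.f (n * v * n⁻¹) := by
  set C := C₀ c P
  set Q := P ⊓ C
  set N₀ := C ⊓ normalizer (Q : Set G)
  have hPQ : P ≤ normalizer (Q : Set G) := Cfsg.Lib.Coprime.le_normalizer_inf le_normalizer h.le_norm_C0
  have hPN : P ≤ normalizer (N₀ : Set G) :=
    Cfsg.Lib.Coprime.le_normalizer_inf h.le_norm_C0 (hPQ.trans le_normalizer)
  let K : Subgroup G :=
    { carrier := {k | k ∈ N₀ ∧ ∀ v ∈ Q, c.f (k * v * k⁻¹) = c.f v}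
      one_mem' := ⟨one_mem _, fun v _ => by simp⟩
      mul_mem' := fun {a b} ha hb => ⟨mul_mem ha.1 hb.1, fun v hv => by
        rw [show a * b * v * (a * b)⁻¹ = a * (b * v * b⁻¹) * a⁻¹ by group,
          ha.2 _ ((mem_normalizer_iff.1 hb.1.2 v).1 hv), hb.2 v hv]⟩
      inv_mem' := fun {a} ha => ⟨inv_mem ha.1, fun v hv => by
        have hv' : a⁻¹ * v * a ∈ Q := by simpa using (mem_normalizer_iff.1 (inv_mem ha.1.2) v).1 hv
        have := ha.2 _ hv'
        rw [show a * (a⁻¹ * v * a) * a⁻¹ = v by group] at this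
        rw [inv_inv]
        exact this.symm⟩ }
  have hQK : Q ≤ K := fun q hq => ⟨⟨hq.2, le_normalizer hq⟩, fun v hv => by
    rw [hab q hq v hv, mul_inv_cancel_right]⟩
  set X := N₀ ⊔ P
  set Y := K ⊔ P
  have hPY : P ≤ Y := le_sup_right
  have hKN : K ≤ N₀ := fun k hk => hk.1
  have hK : ∀ y ∈ X, y ∈ normalizer (K : Set G) := by
    suffices h1 : X ≤ normalizer (K : Set G) from fun y hy => h1 hy
    have key : ∀ y : G, y ∈ normalizer (N₀ : Set G) → y ∈ normalizer (Q : Set G) →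
        (∀ v ∈ Q, ∀ w ∈ Q, c.f v = c.f w → c.f (y * v * y⁻¹) = c.f (y * w * y⁻¹)) →
        ∀ k ∈ K, y * k * y⁻¹ ∈ K := fun y hyN hyQ hyf k hk => by
      refine ⟨(mem_normalizer_iff.1 hyN k).1 hk.1, fun v hv => ?_⟩
      have hv' : y⁻¹ * v * y ∈ Q := by simpa using (mem_normalizer_iff.1 (inv_mem hyQ) v).1 hv
      have := hyf _ ((mem_normalizer_iff.1 hk.1.2 _).1 hv') _ hv' (hk.2 _ hv')
      calc c.f (y * k * y⁻¹ * v * (y * k * y⁻¹)⁻¹) = c.f (y * (k * (y⁻¹ * v * y) * k⁻¹) * y⁻¹) :=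
            congrArg c.f (by group)
        _ = c.f (y * (y⁻¹ * v * y) * y⁻¹) := this
        _ = c.f v := congrArg c.f (by group)
    have hf : ∀ y v w : G, c.f v = c.f w → c.f (y * v * y⁻¹) = c.f (y * w * y⁻¹) := fun y v w e => by
      simp only [map_mul, e]
    refine sup_le (fun y hy => ?_) (fun y hy => ?_)
    · exact Cfsg.Lib.Coprime.mem_normalizer_of_conj_mem
        (key y (le_normalizer hy) hy.2 fun v _ w _ => hf y v w)
        fun x hx => by simpa using key y⁻¹ (inv_mem (le_normalizer hy)) (inv_mem hy.2) (fun v _ w _ => hf _ v w) x hx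
    · exact Cfsg.Lib.Coprime.mem_normalizer_of_conj_mem
        (key y (hPN hy) (hPQ hy) fun v _ w _ => hf y v w)
        fun x hx => by simpa using key y⁻¹ (inv_mem (hPN hy)) (inv_mem (hPQ hy)) (fun v _ w _ => hf _ v w) x hx
  -- `[N₀, P] ≤ K`
  have hNP : ∀ m ∈ N₀, ∀ a ∈ P, a * m * a⁻¹ * m⁻¹ ∈ K := fun m hm a ha => by
    refine ⟨mul_mem ((mem_normalizer_iff.1 (hPN ha) m).1 hm) (inv_mem hm), fun v hv => ?_⟩
    have hw : a⁻¹ * (m⁻¹ * v * m) * a ∈ Q := by
      have h1 : m⁻¹ * v * m ∈ Q := by simpa using (mem_normalizer_iff.1 (inv_mem hm.2) v).1 hv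
      simpa using (mem_normalizer_iff.1 (inv_mem (hPQ ha)) _).1 h1
    have := hcomm a ha m hm _ hw
    calc c.f (a * m * a⁻¹ * m⁻¹ * v * (a * m * a⁻¹ * m⁻¹)⁻¹)
        = c.f (a * m * (a⁻¹ * (m⁻¹ * v * m) * a) * m⁻¹ * a⁻¹) := congrArg c.f (by group)
      _ = c.f (m * a * (a⁻¹ * (m⁻¹ * v * m) * a) * a⁻¹ * m⁻¹) := this
      _ = c.f v := congrArg c.f (by group)
  have hN₀Y : ∀ m ∈ N₀, ∀ y ∈ Y, m * y * m⁻¹ ∈ Y := fun m hm => by
    suffices h1 : Y ≤ Y.comap (MulAut.conj m).toMonoidHom from fun y hy => h1 hy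
    refine sup_le (fun k hk => ?_) (fun a ha => ?_)
    · exact mem_sup_left ((mem_normalizer_iff.1 (hK m (mem_sup_left hm)) k).1 hk)
    · show m * a * m⁻¹ ∈ Y
      have h1 := hNP m hm a ha
      rw [show m * a * m⁻¹ = (a * m * a⁻¹ * m⁻¹)⁻¹ * a by group]
      exact mul_mem (mem_sup_left (inv_mem h1)) (mem_sup_right ha)
  have hXY : X ≤ normalizer (Y : Set G) := sup_le (fun m hm =>
    Cfsg.Lib.Coprime.mem_normalizer_of_conj_mem (hN₀Y m hm)
      fun x hx => by simpa using hN₀Y m⁻¹ (inv_mem hm) x hx) (le_sup_right.trans le_normalizer)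
  haveI : (Y.subgroupOf X).Normal := (normal_subgroupOf_iff_le_normalizer (sup_le_sup_right hKN P)).2 hXY
  have hYX : Y ≤ X := sup_le_sup_right hKN P
  have hYT : Y ≤ normalizer (c.M : Set G) := sup_le (hKN.trans ((inf_le_left.trans inf_le_left).trans le_normalizer)) h.le
  have hPYi : ¬ p ∣ ((P.subgroupOf X).subgroupOf (Y.subgroupOf X)).index := by
    show ¬ p ∣ (P.subgroupOf X).relIndex (Y.subgroupOf X)
    rw [relIndex_subgroupOf hYX]
    exact h.idx_of hPY hYT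
  have hPX : IsPGroup p (P.subgroupOf X) := IsPGroup.of_equiv h.pgp (subgroupOfEquivOfLe (le_sup_right : P ≤ X)).symm
  have hPY' : P.subgroupOf X ≤ Y.subgroupOf X := comap_mono hPY
  let S : Sylow p (Y.subgroupOf X) := IsPGroup.toSylow
    (IsPGroup.of_equiv hPX (subgroupOfEquivOfLe hPY').symm) hPYi
  have hS : (S : Subgroup (Y.subgroupOf X)).map (Y.subgroupOf X).subtype = P.subgroupOf X := by
    rw [show (S : Subgroup (Y.subgroupOf X)) = (P.subgroupOf X).subgroupOf (Y.subgroupOf X) from rfl,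
      subgroupOf_map_subtype, inf_eq_left]
    exact comap_mono hPY
  have htop := Sylow.normalizer_sup_eq_top S
  rw [hS] at htop
  obtain ⟨ν, hν, y, hy, hνy⟩ := mem_sup_of_normal_right.1 (htop ▸ mem_top (⟨n, mem_sup_left hn⟩ : X))
  have hPsup : (Y : Set G) = (K : Set G) * (P : Set G) :=
    coe_mul_of_right_le_normalizer_left K P (fun a ha => hK a (mem_sup_right ha))
  have hsupN : (X : Set G) = (N₀ : Set G) * (P : Set G) := coe_mul_of_right_le_normalizer_left N₀ P hPN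
  obtain ⟨m, hm, a, ha, hma⟩ : (ν : G) ∈ (N₀ : Set G) * (P : Set G) := hsupN ▸ ν.2
  obtain ⟨k, hk, b, hb, hkb⟩ : (y : G) ∈ (K : Set G) * (P : Set G) := hPsup ▸ (show (y : G) ∈ Y from hy)
  simp only at hma hkb
  have hνP : (ν : G) ∈ normalizer (P : Set G) := by
    refine mem_normalizer_iff.2 fun z => ⟨fun hz => ?_, fun hz => ?_⟩
    · exact (mem_normalizer_iff.1 hν ⟨z, mem_sup_right hz⟩).1 hz
    · have hzX : z ∈ X := by
        have := X.mul_mem (X.mul_mem (X.inv_mem ν.2) (mem_sup_right hz)) ν.2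
        simpa [mul_assoc] using this
      exact (mem_normalizer_iff.1 hν ⟨z, hzX⟩).2 hz
  have hmP : m ∈ normalizer (P : Set G) := by
    have := mul_mem hνP (inv_mem (le_normalizer ha))
    rwa [← hma, mul_inv_cancel_right] at this
  refine ⟨m, hm.1, hmP, fun v hv => ?_⟩
  have hn' : n = m * (a * k * a⁻¹) * (a * b) := by
    have := congrArg Subtype.val hνy
    simp only [Subgroup.coe_mul] at this
    rw [← this, ← hma, ← hkb]
    group
  have hab' : a * b ∈ Q := by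
    refine ⟨mul_mem ha hb, ?_⟩
    have hK' : a * k * a⁻¹ ∈ N₀ := hKN ((mem_normalizer_iff.1 (hK a (mem_sup_right ha)) k).1 hk)
    have := mul_mem (inv_mem (mul_mem hm hK')) hn
    rw [hn', inv_mul_cancel_left] at this
    exact this.1
  have hak : a * k * a⁻¹ ∈ K := (mem_normalizer_iff.1 (hK a (mem_sup_right ha)) k).1 hk
  rw [hn', show m * (a * k * a⁻¹) * (a * b) * v * (m * (a * k * a⁻¹) * (a * b))⁻¹ =
    m * ((a * k * a⁻¹) * ((a * b) * v * (a * b)⁻¹) * (a * k * a⁻¹)⁻¹) * m⁻¹ by group,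
    hab _ hab' v hv, mul_inv_cancel_right]
  simp only [map_mul] at hak ⊢
  have h2 := hak.2 v hv
  simp only [map_mul] at h2
  rw [h2]

end Main

end Sec

end Cfsg.Lib.RamSol
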