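import Mathlib
import Cfsg.Agent.RamifiedSolvable.Local

/-!
# Perfect subgroups covering `M/R`
-/

set_option autoImplicit false
set_option linter.unusedSectionVars false
set_option linter.style.haveILetI false

namespace Cfsg.Lib.RamSol

open Subgroup
open scoped commutatorElement

universe u v

variable {G : Type u} [Group G] [Finite G]

omit [Finite G] in
/-- A perfect subgroup has only trivial homomorphisms to solvable groups. -/
theorem perfect_hom_trivial {L : Subgroup G} (hL : ⁅L, L⁆ = L) {T : Type v} [Group T] [Group.IsSolvable T]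
    (φ : L →* T) (x : L) : φ x = 1 := by
  have htop : _root_.commutator L = ⊤ := by
    refine map_injective L.subtype_injective ?_
    rw [map_subtype_commutator, hL, ← MonoidHom.range_eq_map, range_subtype]
  have hD : ∀ n, derivedSeries L n = ⊤ := by
    intro n
    induction n with
    | zero => rfl
    | succ n ih => rw [derivedSeries_succ, ih, ← _root_.commutator_def, htop]
  obtain ⟨n, hn⟩ := (Group.isSolvable_def T).1 inferInstance
  exact mem_bot.1 (hn ▸ map_derivedSeries_le_derivedSeries φ n ⟨x, (hD n).symm ▸ mem_top x, rfl⟩)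

namespace Sec

variable {c : Sec G}

/-- The section as a subgroup of the quotient. -/
abbrev S (c : Sec G) : Subgroup (G ⧸ c.R.normalCore) := c.M.map c.f

omit [Finite G] in
theorem cover_commutator {X : Subgroup G} (hX : X ⊔ c.R = c.M) : ⁅X, X⁆ ⊔ c.R = c.M := by
  haveI := c.hR
  refine le_antisymm (sup_le ((commutator_le_self X).trans (hX ▸ le_sup_left)) c.hRM) ?_
  calc c.M = ⁅c.M, c.M⁆ ⊔ c.R := c.perf.symm
    _ ≤ ⁅X, X⁆ ⊔ c.R := sup_le ?_ le_sup_right
  rw [commutator_le]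
  intro a ha b hb
  rw [← hX] at ha hb
  obtain ⟨a', ha', r, hr, rfl⟩ := mem_sup_of_normal_right.1 ha
  obtain ⟨b', hb', s, hs, rfl⟩ := mem_sup_of_normal_right.1 hb
  have h1 : QuotientGroup.mk' c.R ⁅a' * r, b' * s⁆ = QuotientGroup.mk' c.R ⁅a', b'⁆ := by
    simp only [map_commutatorElement, map_mul]
    rw [show QuotientGroup.mk' c.R r = 1 from (QuotientGroup.eq_one_iff r).2 hr,
      show QuotientGroup.mk' c.R s = 1 from (QuotientGroup.eq_one_iff s).2 hs, mul_one, mul_one]
  rw [QuotientGroup.mk'_apply, QuotientGroup.mk'_apply, eq_comm, QuotientGroup.eq] at h1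
  have h2 := mul_mem_sup (commutator_mem_commutator ha' hb') h1
  rwa [mul_inv_cancel_left] at h2

/-- A covering subgroup contains a perfect covering subgroup with larger normalizer. -/
theorem exists_perfect {X : Subgroup G} (hX : X ⊔ c.R = c.M) :
    ∃ L ≤ X, ⁅L, L⁆ = L ∧ L ⊔ c.R = c.M ∧ normalizer (X : Set G) ≤ normalizer (L : Set G) := by
  induction hn : Nat.card X using Nat.strong_induction_on generalizing X with
  | _ n ih =>
    subst hn
    by_cases hp : ⁅X, X⁆ = X
    · exact ⟨X, le_rfl, hp, hX, le_rfl⟩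
    have hle : ⁅X, X⁆ ≤ X := commutator_le_self X
    have hlt : Nat.card (⁅X, X⁆ : Subgroup G) < Nat.card X := by
      by_contra hge
      exact hp (eq_of_le_of_card_ge hle (not_lt.1 hge))
    obtain ⟨L, hLX, hL, hcov, hnorm⟩ := ih _ hlt (cover_commutator hX) rfl
    exact ⟨L, hLX.trans hle, hL, hcov,
      (Cfsg.Lib.CommFixedGen.le_normalizer_commutator le_rfl le_rfl).trans hnorm⟩

omit [Finite G] in
theorem cover_not_le {L : Subgroup G} (hL : L ⊔ c.R = c.M) : ¬ L ≤ c.R := fun h =>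
  c.ne (by rw [← hL, sup_eq_right.2 h])

/-- A covering subgroup has no solvable quotient with kernel inside `R`. -/
theorem no_solvable_quotient {X : Subgroup G} (hX : X ⊔ c.R = c.M) {T : Type v} [Group T] [Group.IsSolvable T]
    (φ : X →* T) (hφ : ∀ x : X, φ x = 1 → (x : G) ∈ c.R) : False := by
  obtain ⟨L, hLX, hL, hcov, -⟩ := exists_perfect hX
  exact cover_not_le hcov fun x hx => hφ ⟨x, hLX hx⟩ (perfect_hom_trivial hL (φ.comp (inclusion hLX)) ⟨x, hx⟩)

omit [Finite G] in
theorem f_mem_S {L : Subgroup G} (hL : L ⊔ c.R = c.M) (x : L) : c.f x ∈ c.S :=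
  mem_map_of_mem _ (hL ▸ mem_sup_left x.2)

/-- The map of a covering subgroup onto the section. -/
def toS {L : Subgroup G} (hL : L ⊔ c.R = c.M) : L →* c.S :=
  (c.f.comp L.subtype).codRestrict c.S (f_mem_S hL)

theorem toS_surjective {L : Subgroup G} (hL : L ⊔ c.R = c.M) : Function.Surjective (toS hL) := by
  rintro ⟨y, hy⟩
  rw [S, ← c.map_eq_of_sup hL] at hy
  obtain ⟨x, hx, rfl⟩ := hy
  exact ⟨⟨x, hx⟩, rfl⟩

theorem toS_eq_one {L : Subgroup G} (hL : L ⊔ c.R = c.M) {x : L} : toS hL x = 1 ↔ (x : G) ∈ c.R := by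
  rw [Subtype.ext_iff]
  exact c.f_eq_one

theorem simple_S : IsSimpleGroup c.S := by
  haveI := c.hR
  haveI : Nontrivial c.S := by
    obtain ⟨x, hx, hxR⟩ := SetLike.exists_of_lt (lt_of_le_of_ne c.hRM c.ne)
    exact ⟨⟨⟨c.f x, mem_map_of_mem _ hx⟩, 1, fun e => hxR (c.f_eq_one.1 (congrArg Subtype.val e))⟩⟩
  refine ⟨fun N hN => ?_⟩
  set N' := (N.map c.S.subtype).comap c.f ⊓ c.M
  have hRN : c.R ≤ N' := le_inf (fun r hr => by
    show c.f r ∈ N.map c.S.subtype
    rw [c.f_eq_one.2 hr]; exact one_mem _) c.hRM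
  have hn : c.M ≤ normalizer (N' : Set G) := by
    intro m hm
    have key : ∀ y ∈ c.M, ∀ z ∈ N', y * z * y⁻¹ ∈ N' := by
      rintro y hy z ⟨⟨w, hw, hwz⟩, hzM⟩
      refine ⟨⟨⟨c.f y, mem_map_of_mem _ hy⟩ * w * ⟨c.f y, mem_map_of_mem _ hy⟩⁻¹, hN.conj_mem w hw _, ?_⟩,
        c.M.mul_mem (c.M.mul_mem hy hzM) (c.M.inv_mem hy)⟩
      simp only [map_mul, map_inv, ← hwz]
      rfl
    exact Cfsg.Lib.Coprime.mem_normalizer_of_conj_mem (key m hm) fun z hz => by
      simpa using key m⁻¹ (c.M.inv_mem hm) z hz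
  rcases c.simple N' hRN inf_le_right hn with e | e
  · left
    refine (eq_bot_iff_forall _).2 fun w hw => ?_
    obtain ⟨m, hm, hmw⟩ := w.2
    have : m ∈ c.R := e ▸ (⟨⟨w, hw, hmw.symm⟩, hm⟩ : m ∈ N')
    exact Subtype.ext (hmw.symm.trans (c.f_eq_one.2 this))
  · right
    refine eq_top_iff.2 fun w _ => ?_
    obtain ⟨m, hm, hmw⟩ := w.2
    obtain ⟨w', hw', hww⟩ : c.f m ∈ N.map c.S.subtype := (e.symm ▸ hm : m ∈ N').1
    rwa [show w = w' from Subtype.ext (hmw.symm.trans hww.symm)]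

theorem not_comm_S : ¬ IsMulCommutative c.S := fun hc => by
  haveI := c.hR
  refine cover_not_le c.perf ?_
  rw [commutator_le]
  intro a ha b hb
  refine c.f_eq_one.1 ?_
  rw [map_commutatorElement, commutatorElement_eq_one_iff_mul_comm]
  exact congrArg Subtype.val (hc.is_comm.comm (⟨_, mem_map_of_mem _ ha⟩ : c.S) ⟨_, mem_map_of_mem _ hb⟩)

end Sec

end Cfsg.Lib.RamSol
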