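import Mathlib
import Cfsg.Agent.RamifiedSolvable.Local
import Cfsg.Agent.PGroups.AutOrder
import Cfsg.Agent.OddLocal.SmallAction

/-!
# An automizer element twisting a subgroup of the Sylow subgroup
-/

set_option autoImplicit false
set_option linter.unusedSectionVars false
set_option linter.style.haveILetI false

namespace Cfsg.Lib.RamSol

open Subgroup
open scoped commutatorElement Pointwise

universe u

variable {G : Type u} [Group G] [Finite G] {p : ℕ} [hp : Fact p.Prime]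

theorem prime_normal_central {P : Subgroup G} (hP : IsPGroup p P) {x : G} (hox : orderOf x = p)
    (hn : ∀ a ∈ P, a * x * a⁻¹ ∈ zpowers x) {a : G} (ha : a ∈ P) : a * x = x * a := by
  obtain ⟨i, hi⟩ := mem_zpowers_iff.1 (hn a ha)
  have hpow : ∀ n : ℕ, a ^ n * x * (a ^ n)⁻¹ = x ^ (i ^ n) := by
    intro n
    induction n with
    | zero => simp
    | succ n ih =>
      rw [pow_succ' a, show a * a ^ n * x * (a * a ^ n)⁻¹ = a * (a ^ n * x * (a ^ n)⁻¹) * a⁻¹ by group, ih,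
        ← conj_zpow, ← hi, ← zpow_mul, pow_succ']
  obtain ⟨k, hk⟩ := hP ⟨a, ha⟩
  have hk' : a ^ p ^ k = 1 := congrArg Subtype.val hk
  have h1 := hpow (p ^ k)
  rw [hk', one_mul, inv_one, mul_one] at h1
  have h2 : x ^ (i ^ p ^ k - 1) = 1 := by rw [zpow_sub, zpow_one, ← h1, mul_inv_cancel]
  have h3 : ((i ^ p ^ k - 1 : ℤ) : ZMod p) = 0 := by
    rw [ZMod.intCast_zmod_eq_zero_iff_dvd]
    have h' := orderOf_dvd_iff_zpow_eq_one.2 h2
    rwa [hox] at h'
  push_cast at h3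
  rw [ZMod.pow_card_pow, sub_eq_zero] at h3
  have h4 : (p : ℤ) ∣ i - 1 := by
    rw [← ZMod.intCast_zmod_eq_zero_iff_dvd]; push_cast; rw [h3, sub_self]
  obtain ⟨j, hj⟩ := h4
  have h5 : x ^ i = x := by
    rw [show i = 1 + (p : ℤ) * j by omega, zpow_add, zpow_one, zpow_mul, zpow_natCast, ← hox, pow_orderOf_eq_one,
      one_zpow, mul_one]
  calc a * x = a * x * a⁻¹ * a := by group
    _ = x * a := by rw [← hi, h5]

namespace Sec

variable {c : Sec G} {P : Subgroup G}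

/-- The image of the Sylow subgroup in `M/R`. -/
abbrev im (c : Sec G) (P : Subgroup G) : Subgroup (G ⧸ c.R.normalCore) := (P ⊓ c.M).map c.f

theorem Syl.im_C0 (h : Syl c p P) (hC : C₀ c P ⊔ c.R = c.M) : (P ⊓ C₀ c P).map c.f = im c P :=
  h.im_eq hC h.le_norm_C0

theorem inf_R_central {v : G} (hv : v ∈ P ⊓ C₀ c P) (hvR : v ∈ c.R) {w : G} (hw : w ∈ C₀ c P) : v * w = w * v :=
  mem_centralizer_iff.1 hw.2 v ⟨hv.1, hvR⟩

section Gen

variable (h : Syl c p P) (hC : C₀ c P ⊔ c.R = c.M)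
  (hab : ∀ a ∈ P ⊓ C₀ c P, ∀ b ∈ P ⊓ C₀ c P, a * b = b * a)

include h hC hab

/-- An element of `p`-power order of the automizer lies in the abelian Sylow subgroup. -/
theorem Syl.p_part {n : G} (hn : n ∈ C₀ c P ⊓ normalizer ((P ⊓ C₀ c P : Subgroup G) : Set G)) {k : ℕ}
    (hk : n ^ p ^ k = 1) : n ∈ P ⊓ C₀ c P := by
  set Q := P ⊓ C₀ c P
  have hzn : zpowers n ≤ normalizer (Q : Set G) := zpowers_le.2 hn.2
  have hQp : IsPGroup p Q := h.pgp.to_le inf_le_left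
  have hzp : IsPGroup p (zpowers n) := by
    rintro ⟨_, i, rfl⟩
    refine ⟨k, Subtype.ext ?_⟩
    show (n ^ i) ^ p ^ k = 1
    rw [← zpow_natCast, zpow_comm, zpow_natCast, hk, one_zpow]
  have hX : IsPGroup p ↥(zpowers n ⊔ Q) := IsPGroup.to_sup_of_normal_right' hzp hQp hzn
  have hXC : zpowers n ⊔ Q ≤ C₀ c P := sup_le (zpowers_le.2 hn.1) inf_le_right
  have hle : Q ≤ zpowers n ⊔ Q := le_sup_right
  have h1 : Q.relIndex (zpowers n ⊔ Q) = 1 := by
    obtain ⟨i, hi⟩ := IsPGroup.iff_card.1 hX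
    obtain ⟨j, -, hj⟩ := (Nat.dvd_prime_pow hp.out).1 (hi ▸ (index_dvd_card _ :
      Q.relIndex (zpowers n ⊔ Q) ∣ Nat.card ↥(zpowers n ⊔ Q)))
    refine Nat.eq_one_of_dvd_coprimes
      (((Nat.Prime.coprime_iff_not_dvd hp.out).2 (h.inf_idx inf_le_left h.le_norm_C0)).pow_left j) hj.dvd ?_
    exact Dvd.intro _ (relIndex_mul_relIndex Q _ _ hle hXC)
  exact relIndex_eq_one.1 h1 (mem_sup_left (mem_zpowers n))

theorem Syl.fix_of_mem {n : G} (hn : n ∈ P ⊓ C₀ c P) {v : G} (hv : v ∈ P ⊓ C₀ c P) : n * v * n⁻¹ = v := by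
  rw [hab n hn v hv, mul_inv_cancel_right]

/-- Passing to the part of order prime to `p`. -/
theorem Syl.coprime_part {m : G} (hm : m ∈ C₀ c P) (hmP : m ∈ normalizer (P : Set G)) :
    ∃ g ∈ C₀ c P, g ∈ normalizer (P : Set G) ∧ (orderOf g).Coprime p ∧ (∃ k : ℕ, g = m ^ k) ∧
      ∀ v ∈ P ⊓ C₀ c P, c.f (g * v * g⁻¹) = c.f v → c.f (m * v * m⁻¹) = c.f v := by
  obtain ⟨a, r, hr, hor⟩ := Nat.exists_eq_pow_mul_and_not_dvd (orderOf_pos m).ne' p hp.out.ne_one
  have hQn : ∀ y : G, y ∈ C₀ c P → y ∈ normalizer (P : Set G) → y ∈ normalizer ((P ⊓ C₀ c P : Subgroup G) : Set G) :=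
    fun y h1 h2 => (Cfsg.Lib.Coprime.le_normalizer_inf (H := normalizer (P : Set G) ⊓ C₀ c P)
      inf_le_left (inf_le_right.trans le_normalizer)) ⟨h2, h1⟩
  have hg : m ^ p ^ a ∈ C₀ c P := pow_mem hm _
  have hgP : m ^ p ^ a ∈ normalizer (P : Set G) := pow_mem hmP _
  have ho : orderOf (m ^ p ^ a) = r := by
    rw [orderOf_pow' m (pow_ne_zero _ hp.out.ne_zero), hor, Nat.gcd_eq_right (dvd_mul_right _ _),
      Nat.mul_div_cancel_left _ (pow_pos hp.out.pos a)]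
  refine ⟨_, hg, hgP, by rw [ho]; exact ((Nat.Prime.coprime_iff_not_dvd hp.out).2 hr).symm, ⟨_, rfl⟩,
    fun v hv hfix => ?_⟩
  have hh : m ^ r ∈ P ⊓ C₀ c P := h.p_part hC hab
    ⟨pow_mem hm _, hQn _ (pow_mem hm _) (pow_mem hmP _)⟩ (k := a)
    (by rw [← pow_mul, mul_comm, ← hor, pow_orderOf_eq_one])
  have hcop : Int.gcd ((p ^ a : ℕ) : ℤ) (r : ℤ) = 1 := by
    rw [Int.gcd_natCast_natCast]; exact ((Nat.Prime.coprime_iff_not_dvd hp.out).2 hr).pow_left a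
  let St : Subgroup (G ⧸ c.R.normalCore) := centralizer {c.f v}
  have hmem : ∀ y : G, c.f (y * v * y⁻¹) = c.f v → c.f y ∈ St := fun y e => by
    rw [mem_centralizer_singleton_iff]
    rw [map_mul, map_mul, map_inv, mul_inv_eq_iff_eq_mul] at e
    exact e
  have h1 := hmem _ hfix
  have h2 := hmem _ (congrArg c.f (h.fix_of_mem hC hab hh hv))
  have hbez := Int.gcd_eq_gcd_ab ((p ^ a : ℕ) : ℤ) (r : ℤ)
  rw [hcop, Nat.cast_one] at hbez
  have e : m = (m ^ p ^ a) ^ (Int.gcdA ((p ^ a : ℕ) : ℤ) (r : ℤ)) * (m ^ r) ^ (Int.gcdB ((p ^ a : ℕ) : ℤ) (r : ℤ)) := by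
    rw [← zpow_natCast, ← zpow_natCast, ← zpow_mul, ← zpow_mul, ← zpow_add, ← hbez, zpow_one]
  have h3 : c.f m ∈ St := by
    rw [e, map_mul, map_zpow, map_zpow]
    exact mul_mem (zpow_mem h1 _) (zpow_mem h2 _)
  rw [mem_centralizer_singleton_iff] at h3
  rw [map_mul, map_mul, map_inv, mul_inv_eq_iff_eq_mul]
  exact h3

/-- The twisted subgroup `[P, g]`. -/
theorem Syl.twist {g : G} (hg : g ∈ C₀ c P) (hgP : g ∈ normalizer (P : Set G)) (hgo : (orderOf g).Coprime p) :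
    ∃ A : Subgroup G, A ≤ P ⊓ C₀ c P ∧ A ⊓ centralizer ({g} : Set G) = ⊥ ∧ A ⊓ c.R = ⊥ ∧
      A ⊔ (P ⊓ centralizer ({g} : Set G)) = P ∧ P ≤ normalizer (A : Set G) ∧ g ∈ normalizer (A : Set G) := by
  set Q := P ⊓ C₀ c P
  set B := zpowers g
  have hBP : B ≤ normalizer (P : Set G) := zpowers_le.2 hgP
  obtain ⟨i, hi⟩ := IsPGroup.iff_card.1 h.pgp
  have hcop : (Nat.card B).Coprime (Nat.card P) := by
    rw [Nat.card_zpowers, hi]; exact hgo.pow_right i
  have hsol : Group.IsSolvable B ∨ Group.IsSolvable P := Or.inl inferInstance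
  have hcent : centralizer (B : Set G) = centralizer ({g} : Set G) := by
    show centralizer ((zpowers g : Subgroup G) : Set G) = _
    rw [zpowers_eq_closure, centralizer_closure]
  set A := ⁅P, B⁆
  have hAP : A ≤ P := Cfsg.Lib.Coprime.commutator_le_of_le_normalizer hBP
  have hAQ : A ≤ Q := le_inf hAP (by
    rw [commutator_le]
    intro a ha b hb
    have hbC : b ∈ C₀ c P := zpowers_le.2 hg hb
    rw [commutatorElement_def]
    exact mul_mem ((mem_normalizer_iff.1 (h.le_norm_C0 ha) b).1 hbC) (inv_mem hbC))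
  have hQn : g ∈ normalizer (Q : Set G) :=
    (Cfsg.Lib.Coprime.le_normalizer_inf (H := normalizer (P : Set G) ⊓ C₀ c P)
      inf_le_left (inf_le_right.trans le_normalizer)) ⟨hgP, hg⟩
  have hgv : ∀ {v : G}, v ∈ Q → g * v * g⁻¹ ∈ Q := fun {v} hv => (mem_normalizer_iff.1 hQn v).1 hv
  let R' : Subgroup G :=
    { carrier := {w | ∃ v ∈ Q, w = g * v * g⁻¹ * v⁻¹}
      one_mem' := ⟨1, one_mem _, by group⟩
      mul_mem' := by
        rintro _ _ ⟨v, hv, rfl⟩ ⟨w, hw, rfl⟩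
        refine ⟨v * w, mul_mem hv hw, ?_⟩
        have e1 := hab _ (inv_mem hv) _ (mul_mem (hgv hw) (inv_mem hw))
        calc g * v * g⁻¹ * v⁻¹ * (g * w * g⁻¹ * w⁻¹) = g * v * g⁻¹ * (v⁻¹ * (g * w * g⁻¹ * w⁻¹)) := by group
          _ = g * v * g⁻¹ * ((g * w * g⁻¹ * w⁻¹) * v⁻¹) := by rw [e1]
          _ = _ := by group
      inv_mem' := by
        rintro _ ⟨v, hv, rfl⟩
        refine ⟨v⁻¹, inv_mem hv, ?_⟩
        rw [hab _ (hgv hv) _ (inv_mem hv)]
        group }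
  have hAR' : ⁅Q, B⁆ ≤ R' := by
    rw [commutator_le]
    intro v hv b hb
    obtain ⟨k, rfl⟩ := (mem_powers_iff_mem_zpowers).2 hb
    have hk : ∀ k : ℕ, ∀ v ∈ Q, g ^ k * v * (g ^ k)⁻¹ * v⁻¹ ∈ R' := by
      intro k
      induction k with
      | zero => intro v _; exact ⟨1, one_mem _, by group⟩
      | succ k ih =>
        intro v hv
        have h1 : ∀ j : ℕ, g ^ j * v * (g ^ j)⁻¹ ∈ Q := fun j =>
          (mem_normalizer_iff.1 (pow_mem hQn j) v).1 hv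
        have h2 : g * (g ^ k * v * (g ^ k)⁻¹) * g⁻¹ * (g ^ k * v * (g ^ k)⁻¹)⁻¹ ∈ R' := ⟨_, h1 k, rfl⟩
        have := R'.mul_mem h2 (ih v hv)
        convert this using 1
        rw [pow_succ']
        group
    have := R'.inv_mem (hk k v hv)
    simp only [commutatorElement_def]
    convert this using 1
    group
  have hAeq : ⁅A, B⁆ = A := Cfsg.Lib.Coprime.commutator_commutator_eq hBP hcop hsol
  have hAR : A ≤ R' := hAeq.symm.le.trans ((commutator_mono hAQ le_rfl).trans hAR')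
  have hAC : A ⊓ centralizer ({g} : Set G) = ⊥ := by
    rw [eq_bot_iff]
    rintro w ⟨hw, hwc⟩
    have hwg : g * w = w * g := (mem_centralizer_singleton_iff.1 hwc).symm
    obtain ⟨v, hv, hwv⟩ := hAR hw
    have hwQ := hAQ hw
    have hiter : ∀ n : ℕ, g ^ n * v * (g ^ n)⁻¹ = w ^ n * v := by
      intro n
      induction n with
      | zero => simp
      | succ n ih =>
        have hn : g * w ^ n * g⁻¹ = w ^ n := by
          rw [(show Commute g w from hwg).pow_right n, mul_inv_cancel_right]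
        calc g ^ (n + 1) * v * (g ^ (n + 1))⁻¹ = g * (g ^ n * v * (g ^ n)⁻¹) * g⁻¹ := by rw [pow_succ']; group
          _ = g * (w ^ n * v) * g⁻¹ := by rw [ih]
          _ = (g * w ^ n * g⁻¹) * (g * v * g⁻¹ * v⁻¹) * v := by group
          _ = w ^ (n + 1) * v := by rw [hn, ← hwv, pow_succ]
    have h1 := hiter (orderOf g)
    rw [pow_orderOf_eq_one, one_mul, inv_one, mul_one, eq_comm, mul_eq_right] at h1
    obtain ⟨k, hk⟩ := h.pgp ⟨w, hwQ.1⟩
    have h2 : w ^ p ^ k = 1 := congrArg Subtype.val hk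
    rw [mem_bot, ← orderOf_eq_one_iff]
    exact Nat.eq_one_of_dvd_coprimes (hgo.pow_right k) (orderOf_dvd_of_pow_eq_one h1) (orderOf_dvd_of_pow_eq_one h2)
  refine ⟨A, hAQ, hAC, ?_, ?_, Cfsg.Lib.Coprime.le_normalizer_commutator_left B P,
    Cfsg.Lib.Coprime.le_normalizer_commutator_right B P (mem_zpowers g)⟩
  · rw [eq_bot_iff]
    rintro w ⟨hw, hwR⟩
    refine hAC.le ⟨hw, mem_centralizer_singleton_iff.2 ?_⟩
    exact inf_R_central (hAQ hw) hwR hg
  · rw [← hcent]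
    exact Cfsg.Lib.Coprime.commutator_sup_centralizer hBP hcop hsol

end Gen

/-- With abelian image the conjugation actions of two elements on it commute when one acts trivially. -/
theorem comm_of_abelian (hPab : ∀ a ∈ P, ∀ b ∈ P, a * b = b * a)
    {a n v : G} (ha : a ∈ P) (hn : n ∈ C₀ c P ⊓ normalizer ((P ⊓ C₀ c P : Subgroup G) : Set G))
    (hv : v ∈ P ⊓ C₀ c P) : c.f (a * n * v * n⁻¹ * a⁻¹) = c.f (n * a * v * a⁻¹ * n⁻¹) := by
  refine congrArg c.f ?_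
  have h1 : n * v * n⁻¹ ∈ P := ((mem_normalizer_iff.1 hn.2 v).1 hv).1
  calc a * n * v * n⁻¹ * a⁻¹ = a * (n * v * n⁻¹) * a⁻¹ := by group
    _ = n * v * n⁻¹ := by rw [hPab a ha _ h1, mul_inv_cancel_right]
    _ = n * (a * v * a⁻¹) * n⁻¹ := by rw [hPab a ha v hv.1, mul_inv_cancel_right]
    _ = _ := by group

/-- Cyclic image: the twisted subgroup and its element of order `p`. -/
theorem Syl.cyclic_twist (h : Syl c p P) (hC : C₀ c P ⊔ c.R = c.M) (hcyc : IsCyclic (im c P))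
    (hne : im c P ≠ ⊥) :
    ∃ (A : Subgroup G) (x g : G), IsCyclic A ∧ x ∈ A ∧ orderOf x = p ∧ x ∈ c.M ∧ x ∉ c.R ∧
      A ≤ P ∧ (∀ a ∈ P, a * x = x * a) ∧ g * x * g⁻¹ ∈ zpowers x ∧ g * x * g⁻¹ ≠ x ∧
      A ⊔ (P ⊓ centralizer ({g} : Set G)) = P := by
  set Q := P ⊓ C₀ c P
  have hQim : Q.map c.f = im c P := h.im_C0 hC
  let φ : Q →* (im c P : Subgroup (G ⧸ c.R.normalCore)) :=
    (c.f.comp Q.subtype).codRestrict _ fun v => hQim ▸ mem_map_of_mem c.f v.2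
  have hker : φ.ker ≤ center Q := fun v hv => by
    rw [mem_center_iff]
    intro w
    have hvR : (v : G) ∈ c.R := c.f_eq_one.1 (congrArg Subtype.val (MonoidHom.mem_ker.1 hv))
    exact Subtype.ext (inf_R_central v.2 hvR w.2.2).symm
  have hab : ∀ a ∈ Q, ∀ b ∈ Q, a * b = b * a := fun a ha b hb =>
    by
    haveI := MonoidHom.isMulCommutative_of_isCyclic_of_ker_le_center φ hker
    exact congrArg Subtype.val (mul_comm' (⟨a, ha⟩ : Q) ⟨b, hb⟩)
  obtain ⟨⟨w₀, hw₀⟩, hgen⟩ := hcyc.exists_generator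
  have hcomm : ∀ a ∈ P, ∀ n ∈ C₀ c P ⊓ normalizer (Q : Set G), ∀ v ∈ Q,
      c.f (a * n * v * n⁻¹ * a⁻¹) = c.f (n * a * v * a⁻¹ * n⁻¹) := by
    intro a ha n hn v hv
    have hQn : ∀ y : G, y ∈ normalizer (Q : Set G) → ∃ i : ℤ, c.f y * w₀ * (c.f y)⁻¹ = w₀ ^ i := fun y hy => by
      rw [← hQim] at hw₀
      obtain ⟨v₀, hv₀, hv₀w⟩ := hw₀
      have h1 : c.f (y * v₀ * y⁻¹) ∈ im c P := hQim ▸ mem_map_of_mem c.f ((mem_normalizer_iff.1 hy v₀).1 hv₀)
      obtain ⟨i, hi⟩ := hgen ⟨_, h1⟩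
      refine ⟨i, ?_⟩
      have h2 : w₀ ^ i = c.f (y * v₀ * y⁻¹) := congrArg Subtype.val hi
      rw [h2, map_mul, map_mul, map_inv, hv₀w]
    obtain ⟨i, hi⟩ := hQn a ((Cfsg.Lib.Coprime.le_normalizer_inf le_normalizer h.le_norm_C0) ha)
    obtain ⟨k, hk⟩ := hQn n hn.2
    obtain ⟨j, hj⟩ := hgen ⟨c.f v, hQim ▸ mem_map_of_mem c.f hv⟩
    have hj' : w₀ ^ j = c.f v := congrArg Subtype.val hj
    simp only [map_mul, map_inv, ← hj']
    calc c.f a * c.f n * w₀ ^ j * (c.f n)⁻¹ * (c.f a)⁻¹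
        = c.f a * (c.f n * w₀ * (c.f n)⁻¹) ^ j * (c.f a)⁻¹ := by rw [conj_zpow]; group
      _ = (c.f a * w₀ * (c.f a)⁻¹) ^ (k * j) := by rw [hk, ← zpow_mul, conj_zpow]
      _ = w₀ ^ (i * (k * j)) := by rw [hi, ← zpow_mul]
      _ = w₀ ^ (k * (i * j)) := by rw [mul_left_comm]
      _ = (c.f n * w₀ * (c.f n)⁻¹) ^ (i * j) := by rw [hk, ← zpow_mul]
      _ = c.f n * (c.f a * w₀ * (c.f a)⁻¹) ^ j * (c.f n)⁻¹ := by rw [hi, conj_zpow, zpow_mul]
      _ = _ := by rw [conj_zpow]; group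
  obtain ⟨v, hv, n, hn, hvn⟩ : ∃ v ∈ Q, ∃ n ∈ C₀ c P ⊓ normalizer (Q : Set G), c.f (n * v * n⁻¹) ≠ c.f v := by
    by_contra hno
    push Not at hno
    refine hne (le_bot_iff.1 (h.focal_im hC hab fun v hv n hn => ?_))
    rw [mem_bot, map_mul, map_inv, hno v hv n hn, inv_mul_cancel]
  obtain ⟨m, hm, hmP, hmn⟩ := h.lift hC hab hcomm hn
  obtain ⟨g, hg, hgP, hgo, -, hgm⟩ := h.coprime_part hC hab hm hmP
  obtain ⟨A, hAQ, hAC, hAR, hsup, hPA, hgA⟩ := h.twist hC hab hg hgP hgo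
  have hAne : A ≠ ⊥ := by
    intro e
    rw [e, bot_sup_eq] at hsup
    have hc : g * v = v * g := (mem_centralizer_singleton_iff.1 (hsup.ge hv.1).2).symm
    exact hvn ((hmn v hv).symm.trans (hgm v hv (by rw [hc, mul_inv_cancel_right])))
  let ι : A →* (im c P : Subgroup (G ⧸ c.R.normalCore)) := φ.comp (inclusion hAQ)
  have hι : Function.Injective ι := (injective_iff_map_eq_one ι).2 fun a ha => Subtype.ext
    (mem_bot.1 (hAR.le ⟨a.2, c.f_eq_one.1 (congrArg Subtype.val ha)⟩))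
  haveI := hcyc
  haveI hAc : IsCyclic A := isCyclic_of_injective ι hι
  have hdvd : p ∣ Nat.card A := by
    obtain ⟨k, hk⟩ := IsPGroup.iff_card.1 (h.pgp.to_le (hAQ.trans inf_le_left))
    refine hk ▸ dvd_pow_self p fun h0 => hAne ?_
    rw [h0, pow_zero] at hk
    exact eq_bot_of_card_eq _ hk
  obtain ⟨⟨x, hxA⟩, hx⟩ := exists_prime_orderOf_dvd_card' p hdvd
  have hox : orderOf x = p := by rwa [Subgroup.orderOf_mk] at hx
  have hx1 : x ≠ 1 := fun e => hp.out.ne_one (by rw [← hox, e, orderOf_one])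
  have hmemz : ∀ y ∈ A, orderOf y = p → y ∈ zpowers x := by
    intro y hy hoy
    classical
    letI : Fintype A := Fintype.ofFinite A
    set X : A := ⟨x, hxA⟩
    have hle := IsCyclic.card_pow_eq_one_le (α := A) hp.out.pos
    have hsub : (Finset.univ.filter fun z : A => z ∈ zpowers X) ⊆ Finset.univ.filter fun z : A => z ^ p = 1 := by
      intro z hz
      rw [Finset.mem_filter] at hz ⊢
      obtain ⟨i, rfl⟩ := mem_zpowers_iff.1 hz.2
      refine ⟨hz.1, ?_⟩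
      rw [← zpow_natCast, zpow_comm, zpow_natCast, ← hx, pow_orderOf_eq_one, one_zpow]
    have hcard : (Finset.univ.filter fun z : A => z ∈ zpowers X).card = p := by
      rw [← Fintype.card_subtype, ← Nat.card_eq_fintype_card]
      exact (Nat.card_zpowers X).trans hx
    have heq := Finset.eq_of_subset_of_card_le hsub (hle.trans hcard.ge)
    have hy' : (⟨y, hy⟩ : A) ∈ Finset.univ.filter fun z : A => z ^ p = 1 :=
      Finset.mem_filter.2 ⟨Finset.mem_univ _, Subtype.ext (by rw [← hoy]; exact pow_orderOf_eq_one y)⟩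
    rw [← heq, Finset.mem_filter] at hy'
    obtain ⟨i, hi⟩ := mem_zpowers_iff.1 hy'.2
    exact ⟨i, congrArg Subtype.val hi⟩
  have hconj : ∀ a : G, a ∈ normalizer (A : Set G) → a * x * a⁻¹ ∈ zpowers x := fun a ha =>
    hmemz _ ((mem_normalizer_iff.1 ha x).1 hxA)
      ((orderOf_injective (MulAut.conj a).toMonoidHom (MulAut.conj a).injective x).trans hox)
  refine ⟨A, x, g, hAc, hxA, hox, (hAQ hxA).2.1, fun hxR => hx1 (mem_bot.1 (hAR.le ⟨hxA, hxR⟩)),
    hAQ.trans inf_le_left, fun a ha => prime_normal_central h.pgp hox (fun b hb => hconj b (hPA hb)) ha,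
    hconj g hgA, fun e => hx1 (mem_bot.1 (hAC.le ⟨hxA, mem_centralizer_singleton_iff.2 ?_⟩)), hsup⟩
  calc x * g = g * x * g⁻¹ * g := by rw [e]
    _ = g * x := by group

end Sec

end Cfsg.Lib.RamSol
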