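import Mathlib
import Cfsg.Agent.RamifiedSolvable.Twisted
import Cfsg.Agent.SolvStruct.PGroupBasics

/-!
# The automizer of a Sylow image of type `C₂ × C₂ × C₂`
-/

set_option autoImplicit false
set_option linter.unusedSectionVars false
set_option linter.style.haveILetI false
set_option linter.style.openClassical false

namespace Cfsg.Lib.RamSol

open Subgroup
open scoped commutatorElement Pointwise Classical IsMulCommutative

universe u

variable {G : Type u} [Group G] [Finite G]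

/-- An orbit of a fixed-point-free map of period `7` has at least seven points. -/
theorem seven_le {X : Type u} (S : Finset X) (σ : X → X) (hS : ∀ x ∈ S, σ x ∈ S) {x : X} (hx : x ∈ S)
    (h7 : σ^[7] x = x) (hne : σ x ≠ x) : 7 ≤ S.card := by
  have hmp : Function.minimalPeriod σ x = 7 := by
    rcases (Nat.dvd_prime (by norm_num : Nat.Prime 7)).1 (Function.IsPeriodicPt.minimalPeriod_dvd (f := σ) h7) with h | h
    · exact absurd (Function.minimalPeriod_eq_one_iff_isFixedPt.1 h) hne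
    · exact h
  have hmem : ∀ i : ℕ, σ^[i] x ∈ S := by
    intro i
    induction i with
    | zero => exact hx
    | succ i ih => rw [Function.iterate_succ_apply']; exact hS _ ih
  have hinj : Set.InjOn (fun i => σ^[i] x) (Finset.range 7 : Set ℕ) := by
    intro i hi j hj e
    rw [Finset.coe_range, Set.mem_Iio] at hi hj
    exact Function.iterate_injOn_Iio_minimalPeriod (by rw [Set.mem_Iio, hmp]; exact hi)
      (by rw [Set.mem_Iio, hmp]; exact hj) e
  calc 7 = (Finset.range 7).card := by simp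
    _ ≤ S.card := Finset.card_le_card_of_injOn _ (fun i _ => hmem i) hinj

namespace Sec

variable {c : Sec G} {P : Subgroup G}

set_option maxHeartbeats 800000 in
theorem Syl.elem_twist [Fact (Nat.Prime 2)] (h : Syl c 2 P) (hPab : ∀ a ∈ P, ∀ b ∈ P, a * b = b * a)
    (h8 : Nat.card (im c P) = 8) (hexp : ∀ w ∈ im c P, w * w = 1) :
    ∃ (A : Subgroup G) (g : G), A ≤ P ∧ Nat.card A = 8 ∧ A ⊓ c.R = ⊥ ∧ A ≤ c.M ∧
      g ∈ normalizer (A : Set G) ∧ (∀ a ∈ A, a * a = 1) ∧ (∀ a ∈ A, g * a * g⁻¹ = a → a = 1) ∧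
      (∀ a ∈ A, g ^ 7 * a * (g ^ 7)⁻¹ = a) ∧ A ⊔ (P ⊓ centralizer ({g} : Set G)) = P := by
  have hC : C₀ c P ⊔ c.R = c.M := by
    rcases h.dichotomy with h' | h'
    · exact h'
    exfalso
    have hle : im c P ≤ ⊥ := by
      rintro _ ⟨v, hv, rfl⟩
      exact mem_bot.2 (c.f_eq_one.2 (h' ⟨hv.2, mem_centralizer_iff.2 fun q hq => hPab q hq.1 v hv.1⟩))
    rw [le_bot_iff.1 hle, card_bot] at h8
    omega
  have hab : ∀ a ∈ P ⊓ C₀ c P, ∀ b ∈ P ⊓ C₀ c P, a * b = b * a := fun a ha b hb => hPab a ha.1 b hb.1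
  set Q := P ⊓ C₀ c P
  set N₀ := C₀ c P ⊓ normalizer (Q : Set G)
  set I := im c P
  have hQim : Q.map c.f = I := h.im_C0 hC
  have hfI : ∀ y ∈ N₀, c.f y ∈ normalizer (I : Set (G ⧸ c.R.normalCore)) := fun y hy => by
    rw [← hQim]
    exact le_normalizer_map c.f (mem_map_of_mem c.f hy.2)
  let ψ : N₀ →* MulAut I := (normalizerMonoidHom I).comp
    ((c.f.comp N₀.subtype).codRestrict (normalizer (I : Set (G ⧸ c.R.normalCore))) fun y => hfI y y.2)
  have hψ : ∀ (y : N₀) (w : I), ((ψ y w : I) : G ⧸ c.R.normalCore) = c.f y * w * (c.f y)⁻¹ := fun y w => rfl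
  have hIc : IsMulCommutative I := ⟨⟨fun u w => Subtype.ext (by
    have hu := hexp _ u.2
    have hw := hexp _ w.2
    have huw := hexp _ (I.mul_mem u.2 w.2)
    show (u : G ⧸ c.R.normalCore) * w = w * u
    calc (u : G ⧸ c.R.normalCore) * w = (u : G ⧸ c.R.normalCore)⁻¹ * (w : G ⧸ c.R.normalCore)⁻¹ := by
          rw [inv_eq_of_mul_eq_one_left hu, inv_eq_of_mul_eq_one_left hw]
      _ = ((w : G ⧸ c.R.normalCore) * u)⁻¹ := (mul_inv_rev _ _).symm
      _ = (w : G ⧸ c.R.normalCore) * u := inv_eq_of_mul_eq_one_left (hexp _ (I.mul_mem w.2 u.2)))⟩⟩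
  haveI := hIc
  have hIexp : ∀ w : I, w ^ 2 = 1 := fun w => Subtype.ext (by rw [pow_two]; exact hexp w w.2)
  have hfr : (frattini I).index = 2 ^ 3 := by
    rw [Cfsg.Lib.SolvStruct.frattini_eq_bot_of_elementary (p := 2) hIexp (fun a b => mul_comm' a b), index_bot, h8]
    rfl
  haveI : Finite (MulAut I) := Finite.of_injective (fun e => (e : I → I)) DFunLike.coe_injective
  have haut : Nat.card (MulAut I) ∣ 168 := by
    refine (Cfsg.Lib.PGroups.card_aut_dvd (show Nat.card I = 2 ^ 3 by rw [h8]; rfl) hfr).trans ?_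
    simp [Finset.prod_range_succ]
  have hΓdvd : Nat.card ψ.range ∣ 168 := (card_subgroup_dvd_card _).trans haut
  have hodd : ¬ 2 ∣ Nat.card ψ.range := by
    intro hd
    obtain ⟨⟨_, y, rfl⟩, hy'⟩ := exists_prime_orderOf_dvd_card' 2 hd
    have hy : orderOf (ψ y) = 2 := (orderOf_injective ψ.range.subtype Subtype.coe_injective _).trans hy'
    obtain ⟨a, r, hr, hor⟩ := Nat.exists_eq_pow_mul_and_not_dvd (orderOf_pos y).ne' 2 (by omega)
    have h1 : ((y ^ r : N₀) : G) ∈ Q := h.p_part hC hab (y ^ r).2 (k := a) (by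
      rw [← SubgroupClass.coe_pow, ← pow_mul, mul_comm, ← hor, pow_orderOf_eq_one]; rfl)
    have h2 : ψ (y ^ r) = 1 := by
      refine MulEquiv.ext fun w => Subtype.ext ?_
      have hw : (w : G ⧸ c.R.normalCore) ∈ Q.map c.f := hQim.ge w.2
      obtain ⟨v, hv, hvw⟩ := hw
      rw [hψ, ← hvw, ← map_inv, ← map_mul, ← map_mul, h.fix_of_mem hC hab h1 hv, hvw]
      rfl
    rw [map_pow] at h2
    have h3 := orderOf_dvd_of_pow_eq_one h2
    rw [hy] at h3
    exact hr h3
  obtain ⟨n, hn7, hn1⟩ : ∃ n : N₀, ψ n ^ 7 = 1 ∧ ψ n ≠ 1 := by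
    by_cases h7 : 7 ∣ Nat.card ψ.range
    · haveI : Fact (Nat.Prime 7) := ⟨by norm_num⟩
      obtain ⟨⟨_, n, rfl⟩, hn'⟩ := exists_prime_orderOf_dvd_card' 7 h7
      have hn : orderOf (ψ n) = 7 := (orderOf_injective ψ.range.subtype Subtype.coe_injective _).trans hn'
      exact ⟨n, by rw [← hn, pow_orderOf_eq_one], fun e => by rw [e, orderOf_one] at hn; omega⟩
    exfalso
    have h3 : Nat.card ψ.range ∣ 3 := by
      have c1 : (Nat.card ψ.range).Coprime (2 ^ 3 * 7) := Nat.Coprime.mul_right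
        ((Nat.Prime.coprime_iff_not_dvd Nat.prime_two).2 hodd |>.symm.pow_right 3)
        ((Nat.Prime.coprime_iff_not_dvd (by norm_num : Nat.Prime 7)).2 h7).symm
      exact c1.dvd_of_dvd_mul_left (hΓdvd.trans (by norm_num))
    haveI : Fact (Nat.Prime 3) := ⟨Nat.prime_three⟩
    obtain ⟨e, he, heq⟩ : ∃ e ≤ 1, Nat.card ψ.range = 3 ^ e := by
      obtain ⟨e, he, heq⟩ := (Nat.dvd_prime_pow Nat.prime_three).1 (show _ ∣ 3 ^ 1 from h3)
      exact ⟨e, he, heq⟩
    have hΓ : IsPGroup 3 ψ.range := IsPGroup.of_card heq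
    have hmod : Nat.card I ≡ Nat.card (MulAction.fixedPoints ψ.range I) [MOD 3] :=
      IsPGroup.card_modEq_card_fixedPoints hΓ I
    haveI : Nonempty (MulAction.fixedPoints ψ.range I) := ⟨⟨1, fun γ => map_one (γ : MulAut I)⟩⟩
    have h2 : 1 < Nat.card (MulAction.fixedPoints ψ.range I) := by
      have hpos : 0 < Nat.card (MulAction.fixedPoints ψ.range I) := Nat.card_pos
      rw [h8, Nat.ModEq] at hmod
      omega
    obtain ⟨⟨w, hw⟩, hw1⟩ : ∃ w : MulAction.fixedPoints ψ.range I, (w : I) ≠ 1 := by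
      by_contra hno
      push Not at hno
      haveI : Subsingleton (MulAction.fixedPoints ψ.range I) :=
        ⟨fun a b => Subtype.ext ((hno a).trans (hno b).symm)⟩
      rw [Nat.card_of_subsingleton ⟨1, fun γ => map_one (γ : MulAut I)⟩] at h2
      omega
    letI : Fintype ψ.range := Fintype.ofFinite _
    let Nm : I →* I :=
      { toFun := fun u => ∏ γ : ψ.range, (γ : MulAut I) u
        map_one' := by simp
        map_mul' := fun a b => by simp [Finset.prod_mul_distrib] }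
    have hker : I ≤ Nm.ker.map I.subtype := by
      refine h.focal_im hC hab fun v hv y hy => ?_
      have hvI : c.f v ∈ I := hQim ▸ mem_map_of_mem c.f hv
      refine ⟨(⟨c.f v, hvI⟩ : I)⁻¹ * ψ ⟨y, hy⟩ ⟨c.f v, hvI⟩, ?_, ?_⟩
      · show Nm _ = 1
        rw [map_mul, map_inv, inv_mul_eq_one]
        show ∏ γ : ψ.range, (γ : MulAut I) _ = ∏ γ : ψ.range, (γ : MulAut I) (ψ ⟨y, hy⟩ _)
        refine (Equiv.prod_comp (Equiv.mulRight (⟨ψ ⟨y, hy⟩, ⟨⟨y, hy⟩, rfl⟩⟩ : ψ.range)) _).symm.trans ?_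
        rfl
      · rw [Subgroup.coe_subtype, Subgroup.coe_mul, Subgroup.coe_inv, hψ, map_mul, map_inv, map_mul, map_mul, map_inv]
    obtain ⟨w', hw', hww⟩ := hker w.2
    rw [Subtype.ext hww] at hw'
    have h4 : Nm w = w ^ Fintype.card ψ.range := by
      show ∏ γ : ψ.range, (γ : MulAut I) w = _
      rw [Finset.prod_congr rfl (show ∀ γ ∈ (Finset.univ : Finset ψ.range), (γ : MulAut I) w = w from fun γ _ => hw γ),
        Finset.prod_const, Finset.card_univ]
    have h5 : w ^ Fintype.card ψ.range = w := by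
      obtain ⟨j, hj⟩ : Odd (Fintype.card ψ.range) := by
        rw [Nat.odd_iff, ← Nat.card_eq_fintype_card]; omega
      rw [hj, pow_succ, pow_mul, hIexp, one_pow, one_mul]
    exact hw1 (h5.symm.trans (h4.symm.trans hw'))
  obtain ⟨m, hm, hmP, hmn⟩ := h.lift hC hab (fun a ha n hn v hv => comm_of_abelian hPab ha hn hv) n.2
  obtain ⟨g, hg, hgP, hgo, ⟨k, hgk⟩, hgm⟩ := h.coprime_part hC hab hm hmP
  obtain ⟨A, hAQ, hAC, hAR, hsup, -, hgA⟩ := h.twist hC hab hg hgP hgo
  have hmQ : m ∈ N₀ := ⟨hm, (Cfsg.Lib.Coprime.le_normalizer_inf (H := normalizer (P : Set G) ⊓ C₀ c P)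
    inf_le_left (inf_le_right.trans le_normalizer)) ⟨hmP, hm⟩⟩
  have hψm : ψ ⟨m, hmQ⟩ = ψ n := by
    refine MulEquiv.ext fun w => Subtype.ext ?_
    obtain ⟨v, hv, hvw⟩ := hQim.ge w.2
    rw [hψ, hψ, ← hvw, ← map_inv, ← map_mul, ← map_mul, ← map_inv, ← map_mul, ← map_mul]
    exact hmn v hv
  have hinjA : ∀ a ∈ A, ∀ b ∈ A, c.f a = c.f b → a = b := fun a ha b hb e => by
    have h1 : a * b⁻¹ ∈ A ⊓ c.R := ⟨A.mul_mem ha (A.inv_mem hb), c.f_eq_one.1 (by rw [map_mul, map_inv, e, mul_inv_cancel])⟩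
    exact mul_inv_eq_one.1 (mem_bot.1 (hAR.le h1))
  have hsq : ∀ a ∈ A, a * a = 1 := fun a ha => hinjA _ (mul_mem ha ha) 1 (one_mem A) (by
    rw [map_mul, map_one]; exact hexp _ (hQim ▸ mem_map_of_mem c.f (hAQ ha)))
  have hgA7 : ∀ a ∈ A, g ^ 7 * a * (g ^ 7)⁻¹ = a := fun a ha => by
    refine hinjA _ ((mem_normalizer_iff.1 (pow_mem hgA 7) a).1 ha) a ha ?_
    have h1 : ψ (⟨m, hmQ⟩ ^ (k * 7)) = 1 := by rw [map_pow, hψm, mul_comm, pow_mul, hn7, one_pow]
    have h2 := congrArg (fun (φ : MulAut I) => ((φ ⟨c.f a, hQim ▸ mem_map_of_mem c.f (hAQ ha)⟩ : I) : G ⧸ c.R.normalCore)) h1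
    simp only [hψ, SubgroupClass.coe_pow, MulAut.one_apply, pow_mul, ← hgk] at h2
    rw [map_mul, map_mul, map_inv]
    exact h2
  have hfree : ∀ a ∈ A, g * a * g⁻¹ = a → a = 1 := fun a ha e => mem_bot.1 (hAC.le ⟨ha,
    mem_centralizer_singleton_iff.2 (by
      calc a * g = g * a * g⁻¹ * g := by rw [e]
        _ = g * a := by group)⟩)
  have hAne : A ≠ ⊥ := by
    intro e
    rw [e, bot_sup_eq] at hsup
    apply hn1
    rw [← hψm]
    refine MulEquiv.ext fun w => Subtype.ext ?_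
    obtain ⟨v, hv, hvw⟩ := hQim.ge w.2
    have hc : g * v = v * g := (mem_centralizer_singleton_iff.1 (hsup.ge hv.1).2).symm
    rw [hψ, ← hvw, ← map_inv, ← map_mul, ← map_mul, hgm v hv (by rw [hc, mul_inv_cancel_right]), hvw]
    rfl
  refine ⟨A, g, hAQ.trans inf_le_left, ?_, hAR, hAQ.trans (inf_le_right.trans inf_le_left), hgA, hsq, hfree, hgA7, hsup⟩
  letI : Fintype G := Fintype.ofFinite G
  obtain ⟨a, ha, ha1⟩ := (bot_or_exists_ne_one A).resolve_left hAne
  have h7 := seven_le (Finset.univ.filter fun y => y ∈ A ∧ y ≠ 1) (fun y => g * y * g⁻¹)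
    (fun y hy => by
      rw [Finset.mem_filter] at hy ⊢
      exact ⟨Finset.mem_univ _, (mem_normalizer_iff.1 hgA y).1 hy.2.1, fun e => hy.2.2 (conj_eq_one_iff.1 e)⟩)
    (x := a) (Finset.mem_filter.2 ⟨Finset.mem_univ _, ha, ha1⟩)
    (by
      have : ∀ i : ℕ, (fun y => g * y * g⁻¹)^[i] a = g ^ i * a * (g ^ i)⁻¹ := by
        intro i
        induction i with
        | zero => simp
        | succ i ih => rw [Function.iterate_succ_apply', ih, pow_succ']; group
      rw [this]; exact hgA7 a ha)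
    (fun e => ha1 (hfree a ha e))
  have hcardA : (Finset.univ.filter fun y => y ∈ A).card = Nat.card A := by
    rw [← Fintype.card_subtype, Nat.card_eq_fintype_card]
  have hlt : (Finset.univ.filter fun y => y ∈ A ∧ y ≠ 1).card < (Finset.univ.filter fun y => y ∈ A).card :=
    Finset.card_lt_card ⟨fun y hy => Finset.mem_filter.2 ⟨Finset.mem_univ _, (Finset.mem_filter.1 hy).2.1⟩,
      fun hs => (Finset.mem_filter.1 (hs (Finset.mem_filter.2 ⟨Finset.mem_univ (1 : G), one_mem A⟩))).2.2 rfl⟩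
  have hle : Nat.card A ≤ 8 := by
    rw [← h8]
    refine Nat.card_le_card_of_injective (fun a : A => (⟨c.f a, hQim ▸ mem_map_of_mem c.f (hAQ a.2)⟩ : I))
      fun a b e => Subtype.ext (hinjA a a.2 b b.2 (congrArg Subtype.val e))
  omega

end Sec

end Cfsg.Lib.RamSol
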