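import Cfsg.Agent.RamifiedSolvable.Fix
import Cfsg.Agent.RamifiedSolvable.Elementary

/-!
# A nontrivial good element from a twisted subgroup of the Sylow subgroup
-/

set_option autoImplicit false
set_option linter.unusedSectionVars false
set_option linter.style.haveILetI false
set_option linter.style.openClassical false

namespace Cfsg.Lib.RamSol

open scoped Classical IsMulCommutative
open Subgroup

universe u

variable {H : Type u} [Group H] [Fintype H] {Z : Subgroup H} [Z.Normal]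
variable {d : Dat Z} {A : Subgroup (H ⧸ Z)} {m : ℕ} {f : H → ℂ}

namespace Dat

/-- The elements all of whose lifts fix `f`. -/
def Over.fixSub (hf : d.Over A m f) : Subgroup (H ⧸ Z) where
  carrier := {y | Fixed f y}
  one_mem' := fun h hh => by
    rw [hf.congr (b := 1) (hh.trans (map_one _).symm), cj_one]
  mul_mem' := by
    intro a b ha hb h hh
    obtain ⟨a, rfl⟩ := QuotientGroup.mk'_surjective Z a
    obtain ⟨b, rfl⟩ := QuotientGroup.mk'_surjective Z b
    rw [hf.congr (b := a * b) (hh.trans (map_mul _ _ _).symm), cj_mul, ha a rfl, hb b rfl]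
  inv_mem' := by
    intro a ha h hh
    have h1 : cj h⁻¹ f = f := ha h⁻¹ (by rw [map_inv, hh, inv_inv])
    calc cj h f = cj h (cj h⁻¹ f) := by rw [h1]
      _ = f := by rw [← cj_mul, inv_mul_cancel, cj_one]

theorem mem_fixSub (hf : d.Over A m f) {y : H ⧸ Z} : y ∈ hf.fixSub ↔ Fixed f y := Iff.rfl

/-- An element of an abelian subgroup fixes the characters over `θ` on it. -/
theorem Over.fixed_of_mem (hf : d.Over A m f) {y : H ⧸ Z} (hy : y ∈ A) : Fixed f y :=
  fun h hh => hf.self_conj (hh ▸ hy)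

theorem fixed_restrict {y : H ⧸ Z} (hfix : Fixed f y) {B : Subgroup (H ⧸ Z)}
    (hc : ∀ b ∈ B, y * b = b * y) : Fixed (fun u => if u ∈ pre B then f u else 0) y := by
  intro h hh
  have hn : QuotientGroup.mk' Z h ∈ normalizer (B : Set (H ⧸ Z)) := by
    rw [hh]
    refine centralizer_le_normalizer _ (mem_centralizer_iff.2 fun b hb => (hc b hb).symm)
  funext u
  simp only [cj]
  by_cases hu : u ∈ pre B
  · rw [if_pos hu, if_pos ((mem_pre_conj hn u).2 hu)]
    exact congrFun (hfix h hh) u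
  · rw [if_neg hu, if_neg fun h' => hu ((mem_pre_conj hn u).1 h')]

variable {p : ℕ} [Fact p.Prime] {c : Sec (H ⧸ Z)} {P : Subgroup (H ⧸ Z)}

/-- An element of order `p` whose centralizer's Sylow subgroup fixes an extension is good. -/
theorem no_fixed_extension (d : Dat Z) (h : Sec.Syl c p P) {x : H ⧸ Z} (hxM : x ∈ c.M) (hxR : x ∉ c.R)
    (hox : orderOf x = p) (hPx : ∀ a ∈ P, a * x = x * a) {f : H → ℂ} (hf : d.Over (zpowers x) 1 f)
    (hfix : ∀ y ∈ P, Fixed f y) : False := by
  have hcz : ∀ a ∈ P, ∀ b ∈ zpowers x, a * b = b * a := fun a ha b hb => by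
    obtain ⟨k, rfl⟩ := mem_zpowers_iff.1 hb
    exact ((show Commute a x from hPx a ha).zpow_right k).eq
  have hPc : P ≤ centralizer (zpowers x : Set (H ⧸ Z)) := fun a ha =>
    mem_centralizer_iff.2 fun b hb => (hcz a ha b hb).symm
  refine no_good d (x := x) (fun e => hxR (e ▸ one_mem _)) fun y hy f' hf' => ?_
  exact hf'.fixed_centralizer (p := p) ⟨1, by rw [Nat.card_zpowers, hox, pow_one]⟩ P hPc
    (h.idx_of hPc (c.hT x hxM hxR)) (fun a ha => hf.fixed_of_fixed (hcz a ha) (hfix a ha) hf') hy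

end Dat

open Dat

variable {p : ℕ} [Fact p.Prime] {c : Sec (H ⧸ Z)} {P : Subgroup (H ⧸ Z)}

/-- The case of a cyclic image of the Sylow subgroup. -/
theorem no_cyclic (d : Dat Z) (h : Sec.Syl c p P) (hC : Sec.C₀ c P ⊔ c.R = c.M)
    (hcyc : IsCyclic (Sec.im c P)) (hne : Sec.im c P ≠ ⊥) : False := by
  obtain ⟨A, x, g, hAc, hxA, hox, hxM, hxR, hAP, hPx, hgx, hgne, hsup⟩ := h.cyclic_twist hC hcyc hne
  haveI := hAc
  obtain ⟨fA, hfA⟩ := Over.exists_of_cyclic d A
  have hBA : zpowers x ≤ A := zpowers_le.2 hxA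
  have hf := hfA.restrict hBA
  have hcz : ∀ a ∈ P, ∀ b ∈ zpowers x, a * b = b * a := fun a ha b hb => by
    obtain ⟨k, rfl⟩ := mem_zpowers_iff.1 hb
    exact ((show Commute a x from hPx a ha).zpow_right k).eq
  have hgn : g ∈ normalizer (zpowers x : Set (H ⧸ Z)) := by
    have hmap : (zpowers x).map (MulAut.conj g).toMonoidHom = zpowers x := by
      refine eq_of_le_of_card_ge ?_ ?_
      · rw [MonoidHom.map_zpowers]; exact zpowers_le.2 hgx
      · rw [card_map_of_injective (MulAut.conj g).injective]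
    refine mem_normalizer_iff.2 fun b => ⟨fun hb => hmap ▸ mem_map_of_mem _ hb, fun hb => ?_⟩
    rw [← hmap] at hb
    obtain ⟨b', hb', e⟩ := hb
    exact (MulAut.conj g).injective e ▸ hb'
  refine no_fixed_extension d h hxM hxR hox hPx hf fun y hy => ?_
  refine (mem_fixSub hf).1 ((sup_le ?_ ?_ : A ⊔ (P ⊓ centralizer ({g} : Set (H ⧸ Z))) ≤ hf.fixSub) (hsup.ge hy))
  · exact fun a ha => fixed_restrict (hfA.fixed_of_mem ha) (hcz a (hAP ha))
  · rintro a ⟨ha, hag⟩
    refine hf.fixed_of_twist hgn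
      (centralizer_le_normalizer _ (mem_centralizer_iff.2 fun b hb => (hcz a ha b hb).symm)) (hcz a ha)
      (mem_centralizer_singleton_iff.1 hag).symm fun l hl => ?_
    obtain ⟨i, hi⟩ := mem_zpowers_iff.1 hgx
    set X : zpowers x := ⟨x, mem_zpowers x⟩
    have hX : cH hgn X = X ^ i := Subtype.ext (by rw [cH_apply, SubgroupClass.coe_zpow]; exact hi.symm)
    have h1 : l X ^ i = l X := by
      rw [← map_zpow, ← hX]; exact DFunLike.congr_fun hl X
    have hd1 : (orderOf (l X) : ℤ) ∣ i - 1 :=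
      orderOf_dvd_iff_zpow_eq_one.2 (by rw [zpow_sub_one, h1, mul_inv_cancel])
    have hd2 : orderOf (l X) ∣ p := by
      refine (orderOf_map_dvd l X).trans (dvd_of_eq ?_)
      rw [Subgroup.orderOf_mk, hox]
    have hX1 : l X = 1 := by
      rcases (Nat.dvd_prime (Fact.out : p.Prime)).1 hd2 with h' | h'
      · exact orderOf_eq_one_iff.1 h'
      · exfalso
        rw [h', ← hox] at hd1
        have h2 := orderOf_dvd_iff_zpow_eq_one.1 hd1
        rw [zpow_sub_one, hi, mul_inv_eq_one] at h2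
        exact hgne h2
    refine MonoidHom.ext fun ⟨b, hb⟩ => ?_
    obtain ⟨k, rfl⟩ := mem_zpowers_iff.1 hb
    rw [show (⟨x ^ k, hb⟩ : zpowers x) = X ^ k from rfl, map_zpow, hX1, one_zpow, MonoidHom.one_apply]

/-- A fixed-point-free map of period seven on the linear characters of a group of order `8`. -/
theorem linear_free {A : Subgroup (H ⧸ Z)} [IsMulCommutative A] {g : H ⧸ Z}
    (hgA : g ∈ normalizer (A : Set (H ⧸ Z))) (hfree : ∀ a ∈ A, g * a * g⁻¹ = a → a = 1)
    (h7 : ∀ a ∈ A, g ^ 7 * a * (g ^ 7)⁻¹ = a) (l : A →* ℂˣ) :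
    (fun l => l.comp (cH hgA))^[7] l = l ∧ (l.comp (cH hgA) = l → l = 1) := by
  constructor
  · have hi : ∀ i : ℕ, ∀ a : A, (fun l => l.comp (cH hgA))^[i] l a =
        l ⟨g ^ i * a * (g ^ i)⁻¹, (mem_normalizer_iff.1 (pow_mem hgA i) a).1 a.2⟩ := by
      intro i
      induction i with
      | zero => intro a; exact congrArg l (Subtype.ext (by simp))
      | succ i ih =>
        intro a
        rw [Function.iterate_succ_apply', MonoidHom.comp_apply, ih]
        refine congrArg l (Subtype.ext ?_)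
        show g ^ i * (g * a * g⁻¹) * (g ^ i)⁻¹ = g ^ (i + 1) * a * (g ^ (i + 1))⁻¹
        rw [pow_succ]
        group
    refine MonoidHom.ext fun a => ?_
    rw [hi]
    exact congrArg l (Subtype.ext (h7 a a.2))
  · intro hl
    -- `a ↦ a⁻¹ (g a g⁻¹)` is onto
    let δ : A →* A :=
      { toFun := fun a => a⁻¹ * cH hgA a
        map_one' := by simp
        map_mul' := fun a b => by rw [map_mul, mul_inv_rev]; ac_rfl }
    have hδ : Function.Surjective δ := Finite.surjective_of_injective ((injective_iff_map_eq_one δ).2 fun a ha => by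
      have e : a⁻¹ * cH hgA a = 1 := ha
      exact Subtype.ext (hfree a a.2 (congrArg Subtype.val (inv_mul_eq_one.1 e).symm)))
    refine MonoidHom.ext fun b => ?_
    obtain ⟨a, rfl⟩ := hδ b
    show l (a⁻¹ * cH hgA a) = 1
    rw [map_mul, map_inv, inv_mul_eq_one]
    exact (DFunLike.congr_fun hl a).symm

/-- On a twisted group of order `8` the multiplicity is one. -/
theorem mult_one (d : Dat Z) {A : Subgroup (H ⧸ Z)} [IsMulCommutative A] (h8 : Nat.card A = 8) {g : H ⧸ Z}
    (hgA : g ∈ normalizer (A : Set (H ⧸ Z))) (hfree : ∀ a ∈ A, g * a * g⁻¹ = a → a = 1)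
    (h7 : ∀ a ∈ A, g ^ 7 * a * (g ^ 7)⁻¹ = a) {m : ℕ} {f : H → ℂ} (hf : d.Over A m f) : m = 1 := by
  letI : Fintype (A →* ℂˣ) := Fintype.ofFinite _
  obtain ⟨h, hh⟩ := QuotientGroup.mk'_surjective Z g
  subst hh
  obtain ⟨ν, hν⟩ := hf.exists_tw_cj hgA
  set F := Finset.univ.filter fun l : A →* ℂˣ => tw l f = f
  have hF : F.card = m * m := hf.card_fix
  have h1F : (1 : A →* ℂˣ) ∈ F := Finset.mem_filter.2 ⟨Finset.mem_univ _, tw_one hf.zero⟩
  have hσ : ∀ l ∈ F, l.comp (cH hgA) ∈ F := fun l hl => by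
    refine Finset.mem_filter.2 ⟨Finset.mem_univ _, ?_⟩
    have e : cj h (tw l f) = cj h f := by rw [(Finset.mem_filter.1 hl).2]
    rw [cj_tw hgA, ← hν] at e
    have e2 := congrArg (tw ν⁻¹) e
    have e3 : ν⁻¹ * l.comp (cH hgA) * ν = l.comp (cH hgA) := MonoidHom.ext fun a => by
      simp [mul_comm]
    rwa [tw_mul, tw_mul, tw_mul, e3, (inv_mul_cancel ν : ν⁻¹ * ν = 1), tw_one hf.zero] at e2
  by_contra hm
  have hle : F.card ≤ 8 := by
    rw [← h8, ← card_linear, Nat.card_eq_fintype_card]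
    exact Finset.card_le_univ F
  have hm2 : m = 2 := by
    have := hf.pos
    rw [hF] at hle
    by_contra hne
    nlinarith [show 3 ≤ m by omega]
  subst hm2
  obtain ⟨l, hl⟩ : (F.erase 1).Nonempty := by
    rw [← Finset.card_pos, Finset.card_erase_of_mem h1F, hF]
    norm_num
  have h3 := seven_le (F.erase 1) (fun l => l.comp (cH hgA))
    (fun k hk => Finset.mem_erase.2 ⟨fun e => (Finset.mem_erase.1 hk).1 ?_, hσ k (Finset.mem_erase.1 hk).2⟩)
    hl (linear_free hgA hfree h7 l).1 (fun e => (Finset.mem_erase.1 hl).1 ((linear_free hgA hfree h7 l).2 e))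
  · rw [Finset.card_erase_of_mem h1F, hF] at h3
    omega
  · refine MonoidHom.ext fun b => ?_
    obtain ⟨a, ha⟩ : ∃ a : A, cH hgA a = b := (Finite.surjective_of_injective fun a a' e => Subtype.ext (by
      have := congrArg Subtype.val e
      simpa [cH_apply] using this)) b
    rw [← ha]
    exact DFunLike.congr_fun e a

/-- The case of an elementary Sylow image of order `8`. -/
theorem no_elementary [Fact (Nat.Prime 2)] (d : Dat Z) (h : Sec.Syl c 2 P) (hPab : ∀ a ∈ P, ∀ b ∈ P, a * b = b * a)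
    (h8 : Nat.card (Sec.im c P) = 8) (hexp : ∀ w ∈ Sec.im c P, w * w = 1) : False := by
  obtain ⟨A, g, hAP, hA8, hAR, hAM, hgA, hsq, hfree, h7, hsup⟩ := h.elem_twist hPab h8 hexp
  haveI : IsMulCommutative A := ⟨⟨fun a b => Subtype.ext (hPab a (hAP a.2) b (hAP b.2))⟩⟩
  obtain ⟨m, fA, hfA⟩ := Over.exists d A
  obtain rfl : m = 1 := mult_one d hA8 hgA hfree h7 hfA
  obtain ⟨⟨x, hxA⟩, hx⟩ := exists_prime_orderOf_dvd_card' (G := A) 2 (by rw [hA8]; norm_num)
  have hox : orderOf x = 2 := by rwa [Subgroup.orderOf_mk] at hx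
  have hxR : x ∉ c.R := fun hr => by
    rw [mem_bot.1 (hAR.le ⟨hxA, hr⟩), orderOf_one] at hox
    omega
  have hBA : zpowers x ≤ A := zpowers_le.2 hxA
  refine no_fixed_extension d h (hAM hxA) hxR hox (fun a ha => hPab a ha x (hAP hxA)) (hfA.restrict hBA)
    fun y hy => ?_
  refine fixed_restrict ?_ fun b hb => hPab y hy b (hAP (hBA hb))
  refine (mem_fixSub hfA).1 ((sup_le (fun a ha => hfA.fixed_of_mem ha) ?_ :
    A ⊔ (P ⊓ centralizer ({g} : Set (H ⧸ Z))) ≤ hfA.fixSub) (hsup.ge hy))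
  rintro a ⟨ha, hag⟩
  exact hfA.fixed_of_twist hgA
    (centralizer_le_normalizer _ (mem_centralizer_iff.2 fun b hb => hPab b (hAP hb) a ha))
    (fun b hb => hPab a ha b (hAP hb)) (mem_centralizer_singleton_iff.1 hag).symm
    fun l hl => (linear_free hgA hfree h7 l).2 hl

end Cfsg.Lib.RamSol
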