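import Mathlib
import Cfsg.Agent.PGroups.AutOrder
import Cfsg.Agent.SolvStruct.PGroupBasics
import Cfsg.Agent.Chars.Burnside
import Cfsg.Agent.S0262
import Cfsg.Agent.RuSylow.Aut
import Cfsg.Agent.RamifiedSolvable.Cover

/-!
# Perfect groups acting on small `p`-groups
-/

set_option autoImplicit false
set_option linter.unusedSectionVars false
set_option linter.style.haveILetI false

namespace Cfsg.Lib.RamSol

open Subgroup

universe u v

variable {G : Type u} [Group G] [Finite G]

/-- The action of automorphisms on the Frattini quotient. -/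
noncomputable def autQuot (P : Type v) [Group P] : MulAut P →* MulAut (P ⧸ frattini P) where
  toFun α := QuotientGroup.congr _ _ α (characteristic_iff_map_eq.1 inferInstance α)
  map_one' := MulEquiv.ext fun x => by
    induction x using QuotientGroup.induction_on
    rfl
  map_mul' a b := MulEquiv.ext fun x => by
    induction x using QuotientGroup.induction_on
    rfl

theorem autQuot_eq_one {P : Type v} [Group P] {α : MulAut P} (h : autQuot P α = 1) (x : P) :
    α x * x⁻¹ ∈ frattini P := by
  have h1 : ((α x : P) : P ⧸ frattini P) = (x : P ⧸ frattini P) :=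
    DFunLike.congr_fun h (x : P ⧸ frattini P)
  rw [QuotientGroup.eq_iff_div_mem, div_eq_mul_inv] at h1
  exact h1

/-- A perfect group acting trivially on the Frattini quotient of a `p`-group acts trivially. -/
theorem perfect_stab_trivial {L : Subgroup G} (hL : ⁅L, L⁆ = L) {P : Type v} [Group P] [Finite P] {p : ℕ}
    [Fact p.Prime] (hP : IsPGroup p P) (φ : L →* MulAut P) (h : ∀ x, autQuot P (φ x) = 1) (x : L) : φ x = 1 := by
  obtain ⟨n, hn⟩ := IsPGroup.iff_card.1 hP
  obtain ⟨r, -, hr⟩ := (Nat.dvd_prime_pow (Fact.out : p.Prime)).1 (hn ▸ (index_dvd_card (frattini P)))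
  haveI : Finite (MulAut P) := Finite.of_injective (fun e => (e : P → P)) DFunLike.coe_injective
  set A := (autQuot P).ker
  have hd := Cfsg.Lib.PGroups.card_stabilizing_dvd hn hr A fun α hα => autQuot_eq_one hα
  obtain ⟨k, -, hk⟩ := (Nat.dvd_prime_pow (Fact.out : p.Prime)).1 hd
  haveI : Group.IsNilpotent A := (IsPGroup.of_card hk).isNilpotent
  exact congrArg Subtype.val (perfect_hom_trivial hL (φ.codRestrict A fun y => h y) x)

variable {V : Type v} [Group V] [Finite V] [IsMulCommutative V] {r k : ℕ} [hr : Fact r.Prime]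

/-- A perfect group acts trivially on an elementary group of rank at most one. -/
theorem perfect_rank_one {L : Subgroup G} (hL : ⁅L, L⁆ = L) (hV : Nat.card V = r ^ k) (hk : k ≤ 1)
    (φ : L →* MulAut V) (x : L) : φ x = 1 := by
  haveI : IsCyclic V := by
    interval_cases k
    · haveI : Subsingleton V := (Nat.card_eq_one_iff_unique.1 (by rw [hV, pow_zero])).1
      infer_instance
    · exact isCyclic_of_prime_card (p := r) (by rw [hV, pow_one])
  letI : CommGroup (MulAut V) :=
    { (inferInstance : Group (MulAut V)) with mul_comm := fun a b => Cfsg.Lib.RuSylow.aut_cyclic_comm a b }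
  haveI : Group.IsSolvable (MulAut V) := inferInstance
  exact perfect_hom_trivial hL φ x

/-- A perfect group acts trivially on a group of order `9`. -/
theorem perfect_rank_two_three {L : Subgroup G} (hL : ⁅L, L⁆ = L) (hV : Nat.card V = 3 ^ 2)
    (hexp : ∀ v : V, v ^ 3 = 1) (φ : L →* MulAut V) (x : L) : φ x = 1 := by
  haveI : Fact (Nat.Prime 3) := ⟨Nat.prime_three⟩
  haveI : Finite (MulAut V) := Finite.of_injective (fun e => (e : V → V)) DFunLike.coe_injective
  have hfr : (frattini V).index = 3 ^ 2 := by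
    rw [Cfsg.Lib.SolvStruct.frattini_eq_bot_of_elementary (p := 3) hexp (fun a b => mul_comm' a b), index_bot, hV]
  have hd : Nat.card (MulAut V) ∣ 2 ^ 4 * 3 ^ 1 :=
    (Cfsg.Lib.PGroups.card_aut_dvd hV hfr).trans (by simp [Finset.prod_range_succ])
  obtain ⟨d1, d2, h1, h2, e⟩ := Nat.dvd_mul.1 hd
  obtain ⟨i, -, rfl⟩ := (Nat.dvd_prime_pow Nat.prime_two).1 h1
  obtain ⟨j, -, rfl⟩ := (Nat.dvd_prime_pow Nat.prime_three).1 h2
  haveI := Cfsg.Lib.Chars.burnside_isSolvable 2 3 Nat.prime_two Nat.prime_three (MulAut V) ⟨i, j, e.symm⟩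
  exact perfect_hom_trivial hL φ x

open Matrix in
/-- The `3`-subgroups of a perfect group of automorphisms of a plane of characteristic `≠ 3` are cyclic. -/
theorem perfect_rank_two_cyclic {L : Subgroup G} (hL : ⁅L, L⁆ = L) (hr3 : r ≠ 3) (hV : Nat.card V = r ^ 2)
    (hexp : ∀ v : V, v ^ r = 1) (φ : L →* MulAut V) {T : Subgroup L} (hT : IsPGroup 3 T) :
    ∃ t ∈ T, ∀ y ∈ T, ∃ i : ℤ, φ y = φ t ^ i := by
  haveI : Fact (Nat.Prime 3) := ⟨Nat.prime_three⟩
  letI : CommGroup V := { mul_comm := mul_comm' }
  letI : Module (ZMod r) (Additive V) :=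
    AddCommGroup.zmodModule (n := r) (G := Additive V) fun m => hexp m.toMul
  haveI : Finite (Additive V) := inferInstanceAs (Finite V)
  haveI : Module.Finite (ZMod r) (Additive V) := Module.Finite.of_finite
  have hfin : Module.finrank (ZMod r) (Additive V) = 2 := by
    have h := Module.natCard_eq_pow_finrank (K := ZMod r) (V := Additive V)
    rw [Nat.card_congr Additive.toMul, hV, Nat.card_zmod] at h
    exact (Nat.pow_right_injective hr.out.two_le h).symm
  let b := Module.finBasisOfFinrankEq (ZMod r) (Additive V) hfin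
  let lin : MulAut V →* Module.End (ZMod r) (Additive V) :=
    { toFun := fun a => AddMonoidHom.toZModLinearMap r (MonoidHom.toAdditive a.toMonoidHom)
      map_one' := LinearMap.ext fun v => rfl
      map_mul' := fun a b => LinearMap.ext fun v => rfl }
  let F : MulAut V →* Matrix (Fin 2) (Fin 2) (ZMod r) :=
    (LinearMap.toMatrixAlgEquiv b).toMonoidHom.comp lin
  have hF : Function.Injective F := fun a c h => MulEquiv.ext fun v =>
    Additive.ofMul.injective (LinearMap.congr_fun ((LinearMap.toMatrixAlgEquiv b).injective h) (Additive.ofMul v))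
  have hdet : ∀ x : L, (F (φ x)).det = 1 := fun x =>
    congrArg Units.val (perfect_hom_trivial hL ((Matrix.detMonoidHom.comp (F.comp φ)).toHomUnits) x)
  let ψ : L →* Matrix.SpecialLinearGroup (Fin 2) (ZMod r) :=
    { toFun := fun x => ⟨F (φ x), hdet x⟩
      map_one' := Subtype.ext (by simp)
      map_mul' := fun x y => Subtype.ext (by simp only [map_mul]; rfl) }
  obtain ⟨R, hR⟩ := (hT.map ψ).exists_le_sylow
  haveI := Cfsg.Agent.S0262.result r 3 (by norm_num) hr3.symm R
  haveI : IsCyclic (T.map ψ) := isCyclic_of_injective (inclusion hR) (inclusion_injective hR)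
  obtain ⟨⟨_, t, ht, rfl⟩, hgen⟩ := IsCyclic.exists_generator (α := T.map ψ)
  refine ⟨t, ht, fun y hy => ?_⟩
  obtain ⟨i, hi⟩ := mem_zpowers_iff.1 (hgen ⟨ψ y, mem_map_of_mem _ hy⟩)
  refine ⟨i, hF ?_⟩
  have h1 : ψ t ^ i = ψ y := by simpa using congrArg Subtype.val hi
  rw [← map_zpow] at h1
  rw [← map_zpow]
  exact (congrArg Subtype.val h1).symm

end Cfsg.Lib.RamSol
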