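import Cfsg.Agent.RamifiedSolvable.RankThree
import Cfsg.Agent.RamifiedSolvable.LinearTwo
import Cfsg.Agent.RamifiedSolvable.Twisted

/-!
# The centralizer of `P ∩ R` covers the section
-/

set_option autoImplicit false
set_option linter.unusedSectionVars false
set_option linter.style.haveILetI false
set_option linter.style.openClassical false

namespace Cfsg.Lib.RamSol

open scoped _root_.Classical
open Subgroup

universe u

variable {G : Type u} [Group G] [Finite G] {c : Sec G} {p : ℕ} [Fact p.Prime] {P : Subgroup G}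

namespace Sec

theorem card_inf_M (c : Sec G) (P : Subgroup G) :
    Nat.card (P ⊓ c.M : Subgroup G) = Nat.card (im c P) * Nat.card (P ⊓ c.R : Subgroup G) := by
  let π : (P ⊓ c.M : Subgroup G) →* im c P := c.f.subgroupMap (P ⊓ c.M)
  have hk : π.ker = (P ⊓ c.R).subgroupOf (P ⊓ c.M) := by
    ext ⟨x, hx⟩
    rw [MonoidHom.mem_ker, mem_subgroupOf, Subtype.ext_iff]
    exact ⟨fun e => ⟨hx.1, c.f_eq_one.1 e⟩, fun e => c.f_eq_one.2 e.2⟩
  rw [card_eq_card_quotient_mul_card_subgroup π.ker,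
    Nat.card_congr (QuotientGroup.quotientKerEquivOfSurjective π (c.f.subgroupMap_surjective _)).toEquiv, hk,
    Nat.card_congr (subgroupOfEquivOfLe (inf_le_inf_left P c.hRM)).toEquiv]

/-- The action of a subgroup of the normalizer. -/
def actOn {L A : Subgroup G} (h : L ≤ normalizer (A : Set G)) : L →* MulAut A :=
  (normalizerMonoidHom A).comp (inclusion h)

theorem mem_centralizer_of_act {L A : Subgroup G} (h : L ≤ normalizer (A : Set G)) {x : L}
    (hx : actOn h x = 1) : (x : G) ∈ centralizer (A : Set G) := by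
  have h1 : inclusion h x ∈ (normalizerMonoidHom A).ker := hx
  rw [normalizerMonoidHom_ker] at h1
  exact h1

/-- An `r`-group with Frattini quotient of rank at most two in `R` cannot be acted on by the section. -/
theorem no_small_frattini {A N : Subgroup G} (hN : N ⊔ c.R = c.M) (hNA : N ≤ normalizer (A : Set G))
    (hcent : c.M ⊓ centralizer (A : Set G) ≤ c.R) (hAp : IsPGroup p A) {k : ℕ}
    (hk : (frattini A).index = p ^ k) (hk2 : k ≤ 2)
    (h3 : p = 3 ∨ ∃ T : Sylow 3 (c.S : Subgroup (G ⧸ c.R.normalCore)), ¬ IsCyclic (T : Subgroup c.S)) : False := by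
  obtain ⟨L, hLN, hL, hcov, -⟩ := exists_perfect hN
  set φ := actOn (hLN.trans hNA)
  haveI : IsMulCommutative (A ⧸ frattini A) := Cfsg.Lib.PGroups.isMulCommutative_quotient_frattini hAp
  have hexp := Cfsg.Lib.PGroups.pow_prime_quotient_frattini hAp
  have hcard : Nat.card (A ⧸ frattini A) = p ^ k := by rw [← index_eq_card, hk]
  -- no covering subgroup acts trivially on the Frattini quotient
  have hno : ∀ X : Subgroup G, X ⊔ c.R = c.M → X ≤ L →
      (∀ (x : L), (x : G) ∈ X → autQuot A (φ x) = 1) → False := by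
    intro X hX hXL htriv
    obtain ⟨L', hL'X, hL', hcov', -⟩ := exists_perfect hX
    have hle : L' ≤ L := hL'X.trans hXL
    refine cover_not_le hcov' fun x hx => hcent ⟨hcov' ▸ mem_sup_left hx, ?_⟩
    exact mem_centralizer_of_act (hLN.trans hNA) (x := inclusion hle ⟨x, hx⟩)
      (perfect_stab_trivial hL' hAp (φ.comp (inclusion hle)) (fun y => htriv _ (hL'X y.2)) ⟨x, hx⟩)
  set ψ := (autQuot A).comp φ
  rcases eq_or_lt_of_le hk2 with rfl | hk1
  swap
  · exact hno L hcov le_rfl fun x _ => perfect_rank_one hL hcard (by omega) ψ x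
  by_cases hp3 : p = 3
  · subst hp3
    exact hno L hcov le_rfl fun x _ => perfect_rank_two_three hL hcard hexp ψ x
  obtain ⟨T₀, hT₀⟩ := h3.resolve_left hp3
  haveI : Fact (Nat.Prime 3) := ⟨Nat.prime_three⟩
  haveI := simple_S (c := c)
  set π := toS hcov
  rcases IsSimpleGroup.eq_bot_or_eq_top_of_normal (ψ.ker.map π)
      (Normal.map inferInstance π (toS_surjective hcov)) with hb | ht
  · obtain ⟨T⟩ : Nonempty (Sylow 3 L) := inferInstance
    obtain ⟨t, ht, hgen⟩ := perfect_rank_two_cyclic hL hp3 hcard hexp ψ T.isPGroup'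
    refine hT₀ ?_
    set T' := T.mapSurjective (toS_surjective hcov)
    haveI : IsCyclic (T' : Subgroup c.S) := by
      refine isCyclic_iff_exists_zpowers_eq_top.2 ⟨⟨π t, mem_map_of_mem _ ht⟩, eq_top_iff.2 ?_⟩
      rintro ⟨_, y, hy, rfl⟩ -
      obtain ⟨i, hi⟩ := hgen y hy
      refine mem_zpowers_iff.2 ⟨i, Subtype.ext ?_⟩
      have h1 : y * (t ^ i)⁻¹ ∈ ψ.ker := by
        rw [MonoidHom.mem_ker, map_mul, map_inv, map_zpow, hi, mul_inv_cancel]
      have h2 : π (y * (t ^ i)⁻¹) ∈ ψ.ker.map π := mem_map_of_mem _ h1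
      rw [hb, mem_bot, map_mul, map_inv, map_zpow, mul_inv_eq_one] at h2
      rw [SubgroupClass.coe_zpow]
      exact h2.symm
    exact isCyclic_of_surjective (T'.equiv T₀).toMonoidHom (T'.equiv T₀).surjective
  · refine hno (ψ.ker.map L.subtype) ?_ (by rintro _ ⟨x, -, rfl⟩; exact x.2) ?_
    · haveI := c.hR
      refine le_antisymm (sup_le ?_ c.hRM) fun m hm => ?_
      · rintro _ ⟨x, -, rfl⟩; exact hcov ▸ mem_sup_left x.2
      obtain ⟨x, hx, hxm⟩ : (⟨c.f m, mem_map_of_mem _ hm⟩ : c.S) ∈ ψ.ker.map π := ht ▸ mem_top _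
      have h1 : (x : G)⁻¹ * m ∈ c.R := by
        refine c.f_eq_one.1 ?_
        rw [map_mul, map_inv, inv_mul_eq_one]
        exact congrArg Subtype.val hxm
      have := mul_mem_sup (mem_map_of_mem L.subtype hx) h1
      rwa [coe_subtype, mul_inv_cancel_left] at this
    · rintro x ⟨y, hy, hyx⟩
      rw [← show y = x from Subtype.ext hyx]
      exact hy

end Sec

open Dat Sec

variable {H : Type u} [Group H] [Fintype H] {Z : Subgroup H} [Z.Normal] {c : Sec (H ⧸ Z)}
  {P : Subgroup (H ⧸ Z)}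

/-- The centralizer of `P ∩ R` covers `M/R`. -/
theorem covers (d : Dat Z) (h : Sec.Syl c p P) (hne : Sec.im c P ≠ ⊥)
    (hP : (∀ a ∈ P, ∀ b ∈ P, a * b = b * a) ∨
      ∃ PS : Sylow p (H ⧸ Z), P ≤ PS ∧ Nat.card (PS : Subgroup (H ⧸ Z)) ∣ p ^ 4)
    (h3 : p = 3 ∨ ∃ T : Sylow 3 (c.S : Subgroup ((H ⧸ Z) ⧸ c.R.normalCore)), ¬ IsCyclic (T : Subgroup c.S)) :
    C₀ c P ⊔ c.R = c.M := by
  have hp : p.Prime := Fact.out
  refine h.dichotomy.resolve_right fun hle => ?_
  rcases hP with hab | ⟨PS, hPS, hcard⟩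
  · refine hne (le_bot_iff.1 ?_)
    rintro _ ⟨v, hv, rfl⟩
    exact mem_bot.2 (c.f_eq_one.2 (hle ⟨hv.2, mem_centralizer_iff.2 fun q hq => hab q hq.1 v hv.1⟩))
  set A := P ⊓ c.R
  have hAp : IsPGroup p A := h.pgp.to_le inf_le_left
  obtain ⟨n, hn⟩ := IsPGroup.iff_card.1 hAp
  obtain ⟨i, hi⟩ := IsPGroup.iff_card.1 ((h.pgp.to_le (inf_le_left : P ⊓ c.M ≤ P)).map c.f)
  have hi0 : i ≠ 0 := fun h0 => hne (eq_bot_of_card_eq _ (by rw [hi, h0, pow_zero]))
  have hd : p ^ (i + n) ∣ p ^ 4 := by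
    refine (dvd_of_eq ?_).trans ((card_dvd_of_le (inf_le_left.trans hPS : P ⊓ c.M ≤ _)).trans hcard)
    rw [card_inf_M, pow_add, ← hi, ← hn]
  have hn4 : i + n ≤ 4 := (Nat.pow_dvd_pow_iff_le_right hp.one_lt).1 hd
  have hN := h.frattini_M
  have hNA : c.M ⊓ normalizer (A : Set (H ⧸ Z)) ≤ normalizer (A : Set (H ⧸ Z)) := inf_le_right
  obtain ⟨k, -, hk⟩ := (Nat.dvd_prime_pow hp).1 (hn ▸ index_dvd_card (frattini A))
  by_cases hk2 : k ≤ 2
  · exact no_small_frattini hN hNA hle hAp hk hk2 h3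
  -- `A` is elementary of order `p ^ 3` and has index `p` in `P`
  have hkn : k ≤ n := (Nat.pow_dvd_pow_iff_le_right hp.one_lt).1 (hn ▸ hk ▸ index_dvd_card _)
  have hk3 : k = 3 := by omega
  have hn3 : n = 3 := by omega
  have hi1 : i = 1 := by omega
  have hPM : Nat.card (P ⊓ c.M : Subgroup (H ⧸ Z)) = p ^ 4 := by rw [card_inf_M, hn, hn3]; rw [hi, hi1]; ring
  have hPeq : P ⊓ c.M = (PS : Subgroup (H ⧸ Z)) :=
    eq_of_le_of_card_ge (inf_le_left.trans hPS) (by rw [hPM]; exact Nat.le_of_dvd (pow_pos hp.pos 4) hcard)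
  have hPP : P = (PS : Subgroup (H ⧸ Z)) := le_antisymm hPS (hPeq ▸ inf_le_left)
  haveI : IsMulCommutative A := by
    have hfb : frattini A = ⊥ := by
      refine eq_bot_of_card_eq _ ?_
      have h1 := (frattini A).card_mul_index
      rw [hn, hk, hk3, hn3] at h1
      exact (Nat.eq_of_mul_eq_mul_right (pow_pos hp.pos 3) (h1.trans (one_mul _).symm))
    haveI := Cfsg.Lib.PGroups.isMulCommutative_quotient_frattini hAp
    refine ⟨⟨fun a b => ?_⟩⟩
    have h1 := mul_comm' (a : A ⧸ frattini A) (b : A ⧸ frattini A)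
    rw [← QuotientGroup.mk_mul, ← QuotientGroup.mk_mul, QuotientGroup.eq, hfb, mem_bot, inv_mul_eq_one] at h1
    exact h1
  have hNP : P ≤ normalizer ((c.M ⊓ normalizer (A : Set (H ⧸ Z)) : Subgroup (H ⧸ Z)) : Set (H ⧸ Z)) :=
    Cfsg.Lib.Coprime.le_normalizer_inf h.le (h.le_norm_inf.trans le_normalizer)
  obtain ⟨L, hLN, hL, hcov, hnorm⟩ := exists_perfect hN
  obtain ⟨u, hu, huA⟩ : ∃ u ∈ P ⊓ L, u ∉ A := by
    by_contra hno
    push Not at hno
    refine hne (le_bot_iff.1 ?_)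
    rw [Sec.im, ← h.im_eq hcov (hNP.trans hnorm)]
    rintro _ ⟨v, hv, rfl⟩
    exact mem_bot.2 (c.f_eq_one.2 (hno v hv).2)
  exact no_three d PS (A := A) (hn.trans (by rw [hn3])) (inf_le_left.trans hPS)
    (by rw [← hPeq]; exact hPM) (hPP ▸ h.le_norm_inf) hL (hLN.trans hNA) hu.2 (hPS hu.1) huA

end Cfsg.Lib.RamSol
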