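import Cfsg.Agent.RamifiedSolvable.Base
import Cfsg.Agent.S0886

/-!
# Good elements and orbits of the characters over `θ`
-/

set_option autoImplicit false
set_option linter.unusedSectionVars false
set_option linter.style.haveILetI false
set_option linter.style.openClassical false

namespace Cfsg.Lib.RamSol

open scoped Classical ComplexConjugate IsMulCommutative
open Cfsg.Lib.Chars

universe u

variable {H : Type u} [Group H] [Fintype H] {Z : Subgroup H} [Z.Normal]

/-- Every lift of `y` fixes `f`. -/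
def Fixed (f : H → ℂ) (y : H ⧸ Z) : Prop := ∀ h : H, QuotientGroup.mk' Z h = y → cj h f = f

/-- Conjugation on a subgroup by an element of its normalizer. -/
def cH {A : Subgroup (H ⧸ Z)} {y : H ⧸ Z} (hy : y ∈ Subgroup.normalizer (A : Set (H ⧸ Z))) : A →* A where
  toFun a := ⟨y * a * y⁻¹, (Subgroup.mem_normalizer_iff.1 hy a).1 a.2⟩
  map_one' := Subtype.ext (by simp)
  map_mul' a b := Subtype.ext (by simp [mul_assoc])

theorem cH_apply {A : Subgroup (H ⧸ Z)} {y : H ⧸ Z} (hy : y ∈ Subgroup.normalizer (A : Set (H ⧸ Z))) (a : A) :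
    ((cH hy a : A) : H ⧸ Z) = y * a * y⁻¹ := rfl

theorem comp_cH_of_commute {A : Subgroup (H ⧸ Z)} {y : H ⧸ Z} (hy : y ∈ Subgroup.normalizer (A : Set (H ⧸ Z)))
    (hc : ∀ a ∈ A, y * a = a * y) (l : A →* ℂˣ) : l.comp (cH hy) = l := by
  refine MonoidHom.ext fun a => congrArg l (Subtype.ext ?_)
  rw [cH_apply, hc a a.2, mul_inv_cancel_right]

theorem cj_tw {A : Subgroup (H ⧸ Z)} {h : H} (hh : QuotientGroup.mk' Z h ∈ Subgroup.normalizer (A : Set (H ⧸ Z)))
    (l : A →* ℂˣ) (f : H → ℂ) : cj h (tw l f) = tw (l.comp (cH hh)) (cj h f) := by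
  funext u
  have hiff : QuotientGroup.mk' Z (h * u * h⁻¹) ∈ A ↔ QuotientGroup.mk' Z u ∈ A := Dat.mem_pre_conj hh u
  show tw l f (h * u * h⁻¹) = _
  by_cases hu : QuotientGroup.mk' Z u ∈ A
  · rw [tw, tw, dif_pos (hiff.2 hu), dif_pos hu]
    have e : (⟨_, hiff.2 hu⟩ : A) = cH hh ⟨_, hu⟩ := Subtype.ext (by simp only [cH_apply, map_mul, map_inv])
    rw [e]
    rfl
  · rw [tw, tw, dif_neg (fun m => hu (hiff.1 m)), dif_neg hu]

variable {d : Dat Z} {A : Subgroup (H ⧸ Z)} {m : ℕ} {f : H → ℂ}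

namespace Dat

theorem Over.exists_of_cyclic (d : Dat Z) (A : Subgroup (H ⧸ Z)) [IsCyclic A] : ∃ f, d.Over A 1 f := by
  set N := Z.subgroupOf (pre A) with hN
  let e : N ≃* Z := Subgroup.subgroupOfEquivOfLe (le_pre A)
  have hθ' : Cfsg.IsIrrCharacter N (fun z => d.θ (e z)) := IsIrrCharacter.comp_mulEquiv d.hθ e
  have hker : (proj A).ker = N := by
    ext u
    rw [MonoidHom.mem_ker, hN, Subgroup.mem_subgroupOf, Subtype.ext_iff]
    exact QuotientGroup.eq_one_iff (u : H)
  have hcyc : IsCyclic (pre A ⧸ N) := by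
    refine isCyclic_of_injective (QuotientGroup.lift N (proj A) hker.ge) ((injective_iff_map_eq_one _).2 fun a ha => ?_)
    obtain ⟨a, rfl⟩ := QuotientGroup.mk_surjective a
    exact (QuotientGroup.eq_one_iff a).2 (hker ▸ MonoidHom.mem_ker.2 ha)
  obtain ⟨φ, hφ, hres⟩ := Cfsg.Agent.S0886.result N hcyc _ hθ' (fun g z => congrFun (d.inv (g : H)) (e z))
  refine ⟨fun u => if hu : u ∈ pre A then φ ⟨u, hu⟩ else 0, one_pos, ?_, fun u hu => dif_neg hu, fun z => ?_⟩
  · rw [show (fun u : pre A => if hu : (u : H) ∈ pre A then φ ⟨u, hu⟩ else 0) = φ from funext fun u => dif_pos u.2]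
    exact hφ
  · show (if hu : (z : H) ∈ pre A then φ ⟨z, hu⟩ else 0) = _
    rw [dif_pos (le_pre A z.2), Nat.cast_one, one_mul]
    exact hres (e.symm z)

theorem Over.restrict (hf : d.Over A 1 f) {B : Subgroup (H ⧸ Z)} (hBA : B ≤ A) :
    d.Over B 1 (fun u => if u ∈ pre B then f u else 0) := by
  have hle : pre B ≤ pre A := Subgroup.comap_mono hBA
  refine ⟨one_pos, ?_, fun u hu => if_neg hu, fun z => ?_⟩
  swap
  · show (if (z : H) ∈ pre B then f z else 0) = _
    rw [if_pos (le_pre B z.2), hf.res]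
  rw [show (fun u : pre B => if (u : H) ∈ pre B then f u else 0) = fun u : pre B => f u from
    funext fun u => if_pos u.2]
  have hch : Cfsg.IsCharacter (pre B) (fun u : pre B => f u) :=
    IsCharacter.comp_hom (isCharacter_of_irr hf.irr) (Subgroup.inclusion hle)
  obtain ⟨a, ha⟩ := IsCharacter.exists_decomp hch
  have hz : (fun z : Z => f z) =
      ∑ η : Cfsg.IrrCharacter (pre B), a η • (fun z : Z => (η : pre B → ℂ) ⟨z, le_pre B z.2⟩) := by
    funext z
    have h1 := congrFun ha ⟨z, le_pre B z.2⟩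
    simpa [Finset.sum_apply] using h1
  have h1 : Cfsg.classInner (fun z : Z => f z) d.θ = 1 := by
    rw [show (fun z : Z => f z) = ((1 : ℕ) : ℂ) • d.θ from funext hf.res, classInner_smul_left,
      classInner_self_irr d.hθ, Nat.cast_one, mul_one]
  rw [hz, classInner_sum_left] at h1
  obtain ⟨η, -, hη⟩ := Finset.exists_ne_zero_of_sum_ne_zero (h1.trans_ne one_ne_zero)
  simp only [← Nat.cast_smul_eq_nsmul ℂ, classInner_smul_left] at hη
  obtain ⟨k, hk, hkres⟩ := restrict_of_le_inertia Z d.hθ (pre B) (le_pre B)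
    (fun g _ => mem_inertia.2 (d.inv g)) η.2 (right_ne_zero_of_mul hη)
  have hdeg : deg d.θ = ∑ φ : Cfsg.IrrCharacter (pre B), a φ * deg (φ : pre B → ℂ) := by
    apply Nat.cast_injective (R := ℂ)
    have h2 := congrFun ha 1
    rw [show f ((1 : pre B) : H) = f ((1 : Z) : H) from rfl, hf.res, Nat.cast_one, one_mul,
      IsCharacter.apply_one_eq_deg (isCharacter_of_irr d.hθ)] at h2
    rw [h2]
    simp [Finset.sum_apply, irr_apply_one_eq_deg]
  have hηd : deg (η : pre B → ℂ) = k * deg d.θ := by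
    apply Nat.cast_injective (R := ℂ)
    rw [← irr_apply_one_eq_deg, Nat.cast_mul, ← IsCharacter.apply_one_eq_deg (isCharacter_of_irr d.hθ)]
    exact congrFun hkres 1
  have haη : 0 < a η := Nat.pos_of_ne_zero fun h => left_ne_zero_of_mul hη (by rw [h, Nat.cast_zero])
  rw [← Finset.add_sum_erase _ _ (Finset.mem_univ η), hηd] at hdeg
  have hθ0 : 0 < deg d.θ := deg_irr_pos ⟨d.θ, d.hθ⟩
  have h3 : deg d.θ ≤ a η * (k * deg d.θ) := by
    calc deg d.θ = 1 * (1 * deg d.θ) := by ring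
      _ ≤ _ := Nat.mul_le_mul haη (Nat.mul_le_mul_right _ hk)
  have h0 : ∑ φ ∈ Finset.univ.erase η, a φ * deg (φ : pre B → ℂ) = 0 := by omega
  have h4 : a η * k * deg d.θ = 1 * deg d.θ := by rw [one_mul, mul_assoc]; omega
  have h5 := Nat.eq_one_of_mul_eq_one_right (Nat.eq_of_mul_eq_mul_right hθ0 h4)
  rw [ha, Finset.sum_eq_single η (fun φ _ hφ => ?_) (by simp), h5, one_smul]
  · exact η.2
  · have := Finset.sum_eq_zero_iff.1 h0 φ (Finset.mem_erase.2 ⟨hφ, Finset.mem_univ _⟩)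
    rw [(mul_eq_zero.1 this).resolve_right (deg_irr_pos φ).ne', zero_smul]

section Abelian

variable [IsMulCommutative A]

theorem Over.exists_tw_cj (hf : d.Over A m f) {h : H}
    (hh : QuotientGroup.mk' Z h ∈ Subgroup.normalizer (A : Set (H ⧸ Z))) : ∃ l : A →* ℂˣ, tw l f = cj h f := by
  letI : Fintype (A →* ℂˣ) := Fintype.ofFinite _
  exact hf.exists_tw (hf.conj hh)

/-- An element centralizing `A` that fixes one extension fixes all. -/
theorem Over.fixed_of_fixed {f₀ : H → ℂ} (h₀ : d.Over A 1 f₀) {y : H ⧸ Z} (hc : ∀ a ∈ A, y * a = a * y)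
    (hfix : Fixed f₀ y) (hf : d.Over A 1 f) : Fixed f y := by
  letI : Fintype (A →* ℂˣ) := Fintype.ofFinite _
  intro h hh
  obtain ⟨l, rfl⟩ := h₀.exists_tw hf
  have hn : QuotientGroup.mk' Z h ∈ Subgroup.normalizer (A : Set (H ⧸ Z)) :=
    hh ▸ Subgroup.mem_normalizer_iff.2 fun a =>
      ⟨fun ha => by rw [hc a ha, mul_inv_cancel_right]; exact ha, fun ha => by
        have e := hc _ ha
        have e2 : a = y * a * y⁻¹ := by
          calc a = y⁻¹ * (y * a * y⁻¹ * y) := by group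
            _ = y⁻¹ * (y * (y * a * y⁻¹)) := by rw [e]
            _ = y * a * y⁻¹ := by group
        rw [e2]; exact ha⟩
  rw [cj_tw hn, hfix h hh, comp_cH_of_commute hn (fun a ha => hh ▸ hc a ha)]

/-- An element commuting with a fixed-point-free twist fixes an extension. -/
theorem Over.fixed_of_twist (hf : d.Over A 1 f) {g y : H ⧸ Z}
    (hg : g ∈ Subgroup.normalizer (A : Set (H ⧸ Z))) (hyn : y ∈ Subgroup.normalizer (A : Set (H ⧸ Z)))
    (hy : ∀ a ∈ A, y * a = a * y) (hgy : g * y = y * g)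
    (hfree : ∀ l : A →* ℂˣ, l.comp (cH hg) = l → l = 1) : Fixed f y := by
  letI : Fintype (A →* ℂˣ) := Fintype.ofFinite _
  intro k hk
  obtain ⟨h, rfl⟩ := QuotientGroup.mk'_surjective Z g
  have hkn : QuotientGroup.mk' Z k ∈ Subgroup.normalizer (A : Set (H ⧸ Z)) := hk ▸ hyn
  obtain ⟨ν, hν⟩ := hf.exists_tw_cj hg
  obtain ⟨μ, hμ⟩ := hf.exists_tw_cj hkn
  have e1 : cj (k * h) f = tw (μ.comp (cH hg) * ν) f := by
    rw [cj_mul, ← hμ, cj_tw hg, ← hν, tw_mul]
  have e2 : cj (h * k) f = tw (ν * μ) f := by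
    rw [cj_mul, ← hν, cj_tw hkn, ← hμ, tw_mul, comp_cH_of_commute hkn (fun a ha => hk ▸ hy a ha)]
  have e3 : cj (k * h) f = cj (h * k) f := hf.congr (by rw [map_mul, map_mul, hk, hgy])
  rw [e1, e2] at e3
  have e4 := hf.tw_inj e3
  have h1 : μ.comp (cH hg) = μ := by
    refine MonoidHom.ext fun a => ?_
    have e5 := DFunLike.congr_fun e4 a
    simp only [MonoidHom.mul_apply] at e5
    rw [mul_comm (ν a)] at e5
    exact mul_right_cancel e5
  rw [← hμ, hfree μ h1, tw_one hf.zero]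

/-- Fixing passes from a Sylow subgroup of the centralizer to the centralizer. -/
theorem Over.fixed_centralizer (hf : d.Over A 1 f) {p : ℕ} [Fact p.Prime] (hA : ∃ i, Nat.card A = p ^ i)
    (P : Subgroup (H ⧸ Z)) (hPc : P ≤ Subgroup.centralizer (A : Set (H ⧸ Z)))
    (hPi : ¬ p ∣ P.relIndex (Subgroup.centralizer (A : Set (H ⧸ Z)))) (hfix : ∀ y ∈ P, Fixed f y)
    {y : H ⧸ Z} (hy : y ∈ Subgroup.centralizer (A : Set (H ⧸ Z))) : Fixed f y := by
  letI : Fintype (A →* ℂˣ) := Fintype.ofFinite _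
  set C := Subgroup.centralizer (A : Set (H ⧸ Z))
  set K := C.comap (QuotientGroup.mk' Z)
  have hn : ∀ k : K, QuotientGroup.mk' Z k ∈ Subgroup.normalizer (A : Set (H ⧸ Z)) := fun k =>
    Subgroup.centralizer_le_normalizer _ k.2
  have hc : ∀ k : K, ∀ a ∈ A, QuotientGroup.mk' Z k * a = a * QuotientGroup.mk' Z k := fun k a ha =>
    ((Subgroup.mem_centralizer_iff.1 k.2) a ha).symm
  choose t ht using fun k : K => hf.exists_tw_cj (hn k)
  have hmul : ∀ a b : K, t (a * b) = t a * t b := fun a b => hf.tw_inj (by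
    rw [ht, Subgroup.coe_mul, cj_mul, ← ht a, cj_tw (hn b), ← ht b, tw_mul, comp_cH_of_commute (hn b) (hc b)])
  let φ : K →* (A →* ℂˣ) := MonoidHom.mk' t hmul
  have hPK : P.comap (QuotientGroup.mk' Z) ≤ K := Subgroup.comap_mono hPc
  have hle : (P.comap (QuotientGroup.mk' Z)).subgroupOf K ≤ φ.ker := fun k hk => by
    refine MonoidHom.mem_ker.2 (hf.tw_inj (k := t k) (l := 1) ?_)
    rw [ht, hfix _ hk (k : H) rfl, tw_one hf.zero]
  have h1 : φ.ker.index ∣ P.relIndex C := by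
    refine (Subgroup.index_dvd_of_le hle).trans (dvd_of_eq ?_)
    show (P.comap (QuotientGroup.mk' Z)).relIndex K = _
    rw [Subgroup.relIndex_comap, Subgroup.map_comap_eq_self_of_surjective (QuotientGroup.mk'_surjective Z)]
  obtain ⟨i, hi⟩ := hA
  have h2 : φ.ker.index ∣ p ^ i := by
    rw [Subgroup.index_ker, ← hi, ← card_linear]
    exact Subgroup.card_subgroup_dvd_card _
  have h3 : φ.ker = ⊤ := Subgroup.index_eq_one.1 (Nat.eq_one_of_dvd_coprimes
    (((Nat.Prime.coprime_iff_not_dvd (Fact.out : p.Prime)).2 hPi).pow_left i) h2 h1)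
  intro k hk
  have h4 : t ⟨k, show QuotientGroup.mk' Z k ∈ C from hk ▸ hy⟩ = 1 :=
    MonoidHom.mem_ker.1 (h3 ▸ Subgroup.mem_top (⟨k, _⟩ : K) : (⟨k, show QuotientGroup.mk' Z k ∈ C from hk ▸ hy⟩ : K) ∈ φ.ker)
  have h5 := ht ⟨k, show QuotientGroup.mk' Z k ∈ C from hk ▸ hy⟩
  rw [h4, tw_one hf.zero] at h5
  exact h5.symm

end Abelian

/-- Under full ramification no nontrivial element is good. -/
theorem no_good (d : Dat Z) {x : H ⧸ Z} (hx : x ≠ 1)
    (hfix : ∀ y ∈ Subgroup.centralizer (Subgroup.zpowers x : Set (H ⧸ Z)),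
      ∀ f, d.Over (Subgroup.zpowers x) 1 f → Fixed f y) : False := by
  set A := Subgroup.zpowers x with hA
  letI : Fintype (A →* ℂˣ) := Fintype.ofFinite _
  obtain ⟨f, hf⟩ := Over.exists_of_cyclic d A
  set K := pre A
  set c : A := ⟨x, Subgroup.mem_zpowers x⟩
  set g₀ : K → ℂ := fun u => if proj A u = c then f u else 0 with hg₀
  have hA0 : (Nat.card A : ℂ) ≠ 0 := by exact_mod_cast Nat.card_pos.ne'
  have hexp : g₀ = ∑ l : A →* ℂˣ, ((Nat.card A : ℂ)⁻¹ * (l c⁻¹ : ℂ)) • (fun u : K => tw l f u) := by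
    funext u
    rw [Finset.sum_apply]
    simp only [Pi.smul_apply, smul_eq_mul]
    rw [show ∑ l : A →* ℂˣ, (Nat.card A : ℂ)⁻¹ * (l c⁻¹ : ℂ) * tw l f u =
      ((Nat.card A : ℂ)⁻¹ * f u) * ∑ l : A →* ℂˣ, (l (c⁻¹ * proj A u) : ℂ) by
        rw [Finset.mul_sum]
        refine Finset.sum_congr rfl fun l _ => ?_
        rw [tw, dif_pos (show QuotientGroup.mk' Z (u : H) ∈ A from u.2), map_mul, Units.val_mul]
        show _ * ((l (proj A u) : ℂ) * _) = _
        ring]
    rw [sum_linear, hg₀]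
    dsimp only
    by_cases hu : proj A u = c
    · rw [if_pos hu, if_pos (by rw [hu, inv_mul_cancel])]
      field_simp
    · rw [if_neg hu, if_neg (fun h => hu (inv_mul_eq_one.1 h).symm), mul_zero]
  obtain ⟨x₀, hx₀, hfx₀⟩ : ∃ x₀ : K, proj A x₀ = c ∧ f x₀ ≠ 0 := by
    by_contra hno
    push Not at hno
    have h0 : g₀ = 0 := funext fun u => by
      by_cases hu : proj A u = c
      · rw [hg₀]; exact (if_pos hu).trans (hno u hu)
      · rw [hg₀]; exact if_neg hu
    have h1 : Cfsg.classInner g₀ (fun u : K => f u) = (Nat.card A : ℂ)⁻¹ := by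
      rw [hexp, classInner_sum_left, Finset.sum_eq_single (1 : A →* ℂˣ) (fun l _ hl => ?_) (by simp)]
      · rw [classInner_smul_left, hf.inner_eq hf, if_pos (tw_one hf.zero)]
        simp
      · rw [classInner_smul_left, hf.inner_eq hf, if_neg, mul_zero]
        intro h
        exact hl (hf.tw_inj (h.trans (tw_one hf.zero).symm))
    rw [h0, classInner_zero_left] at h1
    exact inv_ne_zero hA0 h1.symm
  have hx₀Z : (x₀ : H) ∉ Z := fun hm => hx (by
    have h1 := congrArg Subtype.val hx₀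
    exact h1.symm.trans ((QuotientGroup.eq_one_iff (x₀ : H)).2 hm))
  have hall : ∀ ψ : Cfsg.IrrCharacter H, Cfsg.classInner (Cfsg.indFun K g₀) (ψ : H → ℂ) = 0 := by
    intro ψ
    rw [frobenius_reciprocity K g₀ (isClassFunction_irr ψ)]
    by_cases hψ : (ψ : H → ℂ) = d.χ
    · rw [classInner_def, Finset.sum_eq_zero, mul_zero]
      intro u _
      by_cases hu : proj A u = c
      · have huZ : (u : H) ∉ Z := fun hm => hx (by
          exact (congrArg Subtype.val hu).symm.trans ((QuotientGroup.eq_one_iff (u : H)).2 hm))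
        rw [hψ, d.off huZ, map_zero, mul_zero]
      · rw [hg₀]; simp only [if_neg hu, zero_mul]
    · rw [hexp, classInner_sum_left]
      refine Finset.sum_eq_zero fun l _ => ?_
      rw [classInner_smul_left]
      refine mul_eq_zero_of_right _ ?_
      by_contra hne
      let j : Z →* K := Subgroup.inclusion (le_pre A)
      have hne' : Cfsg.classInner (fun u : K => (ψ : H → ℂ) u) (fun u : K => tw l f u) ≠ 0 := fun h0 => hne (by
        rw [← classInner_conj_symm, h0, map_zero])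
      refine hψ (d.only ψ.2 (classInner_pullback_ne_zero j (IsCharacter.restrict (isCharacter_of_irr ψ.2) K)
        (hf.twist l).irr hne' d.hθ ?_))
      rw [show (fun z : Z => tw l f ((j z : K) : H)) = ((1 : ℕ) : ℂ) • d.θ from funext (hf.twist l).res,
        classInner_smul_left, classInner_self_irr d.hθ, Nat.cast_one, mul_one]
      exact one_ne_zero
  have hf0 := eq_zero_of_classInner_eq_zero (isClassFunction_indFun K g₀) hall
  have key : ∀ t : H, Cfsg.extendByZero K g₀ (t⁻¹ * x₀ * t) =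
      if QuotientGroup.mk' Z t * x = x * QuotientGroup.mk' Z t then f x₀ else 0 := by
    intro t
    have hx₀' : QuotientGroup.mk' Z (x₀ : H) = x := congrArg Subtype.val hx₀
    have hiff : QuotientGroup.mk' Z (t⁻¹ * x₀ * t) = x ↔ QuotientGroup.mk' Z t * x = x * QuotientGroup.mk' Z t := by
      rw [map_mul, map_mul, map_inv, hx₀', mul_assoc, inv_mul_eq_iff_eq_mul]
      exact eq_comm
    by_cases ht : QuotientGroup.mk' Z t * x = x * QuotientGroup.mk' Z t
    · have hmem : t⁻¹ * x₀ * t ∈ K := by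
        show QuotientGroup.mk' Z (t⁻¹ * x₀ * t) ∈ A
        rw [hiff.2 ht]; exact c.2
      rw [if_pos ht, extendByZero_mem _ hmem, hg₀]
      dsimp only
      rw [if_pos (Subtype.ext (hiff.2 ht))]
      have hcen : QuotientGroup.mk' Z t⁻¹ ∈ Subgroup.centralizer (A : Set (H ⧸ Z)) := by
        rw [map_inv]
        refine Subgroup.inv_mem _ (Subgroup.mem_centralizer_iff.2 ?_)
        rintro a ⟨k, rfl⟩
        exact ((show Commute x (QuotientGroup.mk' Z t) from ht.symm).zpow_left k).eq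
      have h2 := congrFun (hfix _ hcen f hf t⁻¹ rfl) (x₀ : H)
      simpa [cj] using h2
    · rw [if_neg ht]
      by_cases hm : t⁻¹ * x₀ * t ∈ K
      · rw [extendByZero_mem _ hm, hg₀]
        exact if_neg fun h => ht (hiff.1 (congrArg Subtype.val h))
      · exact extendByZero_not_mem _ hm
  have hval : Cfsg.indFun K g₀ (x₀ : H) = 0 := by rw [hf0]; rfl
  rw [indFun_apply, Finset.sum_congr rfl fun t _ => key t, ← Finset.sum_filter, Finset.sum_const,
    nsmul_eq_mul] at hval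
  have h1 : (Nat.card K : ℂ)⁻¹ ≠ 0 := inv_ne_zero (by exact_mod_cast Nat.card_pos.ne')
  rcases mul_eq_zero.1 hval with h | h
  · exact h1 h
  rcases mul_eq_zero.1 h with h | h
  · rw [Nat.cast_eq_zero, Finset.card_eq_zero, Finset.filter_eq_empty_iff] at h
    exact h (Finset.mem_univ 1) (by rw [map_one, one_mul, mul_one])
  · exact hfx₀ h

/-- The characters over `θ` on a normal subgroup of a Sylow subgroup are conjugate under it. -/
theorem Over.conj_in_sylow {p : ℕ} [Fact p.Prime] (P : Sylow p (H ⧸ Z)) (hAP : A ≤ (P : Subgroup (H ⧸ Z)))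
    (hPn : (P : Subgroup (H ⧸ Z)) ≤ Subgroup.normalizer (A : Set (H ⧸ Z)))
    (hf : d.Over A m f) {m' : ℕ} {f' : H → ℂ} (hf' : d.Over A m' f') :
    ∃ h : H, QuotientGroup.mk' Z h ∈ (P : Subgroup (H ⧸ Z)) ∧ cj h f = f' := by
  set U := pre (P : Subgroup (H ⧸ Z)) with hU
  have hAU : pre A ≤ U := Subgroup.comap_mono hAP
  have hUp : ∃ i, Z.relIndex U = p ^ i := by
    obtain ⟨i, hi⟩ := IsPGroup.iff_card.1 P.isPGroup'
    refine ⟨i, ?_⟩
    have h1 := card_pre (P : Subgroup (H ⧸ Z))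
    have h2 := Subgroup.card_mul_index (Z.subgroupOf U)
    rw [Nat.card_congr (Subgroup.subgroupOfEquivOfLe (le_pre (P : Subgroup (H ⧸ Z)))).toEquiv] at h2
    rw [Subgroup.relIndex, ← hi]
    exact Nat.eq_of_mul_eq_mul_left Nat.card_pos (h2.trans h1)
  have hUi : ¬ p ∣ U.index := by
    rw [hU, Subgroup.index_comap_of_surjective _ (QuotientGroup.mk'_surjective Z)]
    exact P.not_dvd_index
  have huniq := ramified_over_sylow Z d.hθ d.hχ d.he d.hres U (le_pre _) hUp hUi
  set L := (pre A).subgroupOf U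
  haveI : L.Normal := ⟨fun x hx u => (mem_pre_conj (hPn u.2) (x : H)).2 hx⟩
  let e : L ≃* pre A := Subgroup.subgroupOfEquivOfLe hAU
  have hψ := IsIrrCharacter.comp_mulEquiv hf.irr e
  have hψ' := IsIrrCharacter.comp_mulEquiv hf'.irr e
  obtain ⟨ξ, hξ, hc⟩ := exists_constituent_ind L hψ
  obtain ⟨ξ', hξ', hc'⟩ := exists_constituent_ind L hψ'
  let j : Z →* L :=
    { toFun := fun z => ⟨⟨z, le_pre _ z.2⟩, le_pre A z.2⟩
      map_one' := rfl
      map_mul' := fun _ _ => rfl }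
  have hup : ∀ {k : ℕ} {φ : H → ℂ}, d.Over A k φ → ∀ η : U → ℂ, Cfsg.IsIrrCharacter U η →
      Cfsg.classInner (fun l : L => η l) (fun l : L => φ (e l)) ≠ 0 →
      Cfsg.classInner (fun z : Z => η ⟨z, le_pre _ z.2⟩) d.θ ≠ 0 := fun {k φ} hφ η hη h => by
    refine classInner_pullback_ne_zero j (IsCharacter.restrict (isCharacter_of_irr hη) L)
      (IsIrrCharacter.comp_mulEquiv hφ.irr e) h d.hθ ?_
    rw [show (fun z : Z => φ ((e (j z) : pre A) : H)) = (k : ℂ) • d.θ from funext hφ.res,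
      classInner_smul_left, classInner_self_irr d.hθ, mul_one]
    exact_mod_cast hφ.pos.ne'
  obtain rfl := huniq ξ ξ' hξ hξ' (hup hf ξ hξ hc) (hup hf' ξ' hξ' hc')
  obtain ⟨u, hu⟩ := exists_conjN_of_constituents L hξ hψ hψ' hc hc'
  refine ⟨u, u.2, funext fun v => ?_⟩
  by_cases hv : v ∈ pre A
  · have h1 := congrFun hu (e.symm ⟨v, hv⟩)
    exact h1.symm
  · rw [(hf.conj (hPn u.2)).zero v hv, hf'.zero v hv]

end Dat

end Cfsg.Lib.RamSol
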