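import Cfsg.Agent.RamifiedSolvable.Endgame
import Cfsg.Agent.RamifiedSolvable.Cover
import Cfsg.Agent.RamifiedSolvable.Exclusion

/-!
# Sylow `2`-subgroups of order `16`
-/

set_option autoImplicit false
set_option linter.unusedSectionVars false
set_option linter.style.haveILetI false
set_option linter.style.openClassical false

namespace Cfsg.Lib.RamSol

open scoped _root_.Classical
open Subgroup

universe u v

/-- A nonabelian group of order `16` with center of order two has a cyclic subgroup of order `8`. -/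
theorem exists_cyclic_eight {Q : Type v} [Group Q] [Finite Q] (h16 : Nat.card Q = 16)
    (hz : Nat.card (center Q) = 2) : ∃ A : Subgroup Q, IsCyclic A ∧ Nat.card A = 8 := by
  haveI : Fact (Nat.Prime 2) := ⟨Nat.prime_two⟩
  have hQ : IsPGroup 2 Q := IsPGroup.of_card (show Nat.card Q = 2 ^ 4 by rw [h16]; rfl)
  haveI : Nontrivial (Q ⧸ center Q) := by
    rw [← Finite.one_lt_card_iff_nontrivial]
    have h := card_eq_card_quotient_mul_card_subgroup (center Q)
    rw [h16, hz] at h
    omega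
  haveI := IsPGroup.center_nontrivial (hQ.to_quotient (center Q))
  obtain ⟨⟨xq, hxq⟩, hx1⟩ := exists_ne (1 : center (Q ⧸ center Q))
  obtain ⟨x, rfl⟩ := QuotientGroup.mk'_surjective (center Q) xq
  have hxz : x ∉ center Q := fun h => hx1 (Subtype.ext ((QuotientGroup.eq_one_iff x).2 h))
  have hc : ∀ y : Q, y * x * y⁻¹ * x⁻¹ ∈ center Q := fun y => by
    have h1 := mem_center_iff.1 hxq (QuotientGroup.mk' _ y)
    rw [← QuotientGroup.eq_one_iff, ← QuotientGroup.mk'_apply, map_mul, map_mul, map_mul, h1, map_inv, map_inv,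
      mul_inv_cancel_right, mul_inv_cancel]
  let κ : Q →* center Q :=
    { toFun := fun y => ⟨_, hc y⟩
      map_one' := Subtype.ext (by simp)
      map_mul' := fun a b => Subtype.ext (by
        show a * b * x * (a * b)⁻¹ * x⁻¹ = a * x * a⁻¹ * x⁻¹ * (b * x * b⁻¹ * x⁻¹)
        have hb := mem_center_iff.1 (hc b) (a * x * a⁻¹ * x⁻¹)
        calc a * b * x * (a * b)⁻¹ * x⁻¹ = a * (b * x * b⁻¹ * x⁻¹) * x * a⁻¹ * x⁻¹ := by group
          _ = (b * x * b⁻¹ * x⁻¹) * (a * x * a⁻¹ * x⁻¹) := by
            rw [mem_center_iff.1 (hc b) a]; group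
          _ = _ := hb.symm) }
  set A := centralizer ({x} : Set Q)
  have hκ : κ.ker = A := by
    ext y
    rw [MonoidHom.mem_ker, mem_centralizer_singleton_iff, Subtype.ext_iff]
    show y * x * y⁻¹ * x⁻¹ = 1 ↔ _
    rw [mul_inv_eq_one, mul_inv_eq_iff_eq_mul]
  have hAi : A.index = 2 := by
    have h1 : A.index ∣ 2 := by rw [← hκ, index_ker, ← hz]; exact card_subgroup_dvd_card _
    refine ((Nat.dvd_prime Nat.prime_two).1 h1).resolve_left fun h => hxz ?_
    rw [index_eq_one] at h
    exact mem_center_iff.2 fun y => mem_centralizer_singleton_iff.1 (h ▸ mem_top y : y ∈ A)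
  have hA8 : Nat.card A = 8 := by
    have := A.card_mul_index
    rw [hAi, h16] at this
    omega
  have hAc : ∀ a ∈ A, ∀ b ∈ A, a * b = b * a := by
    have hzA : center Q ≤ A := center_le_centralizer _
    have hxA : x ∈ A := mem_centralizer_singleton_iff.2 rfl
    have hcx : (⟨x, hxA⟩ : A) ∈ center A := mem_center_iff.2 fun a =>
      Subtype.ext (mem_centralizer_singleton_iff.1 a.2)
    have hle : (center Q).subgroupOf A < center A := by
      refine SetLike.lt_iff_le_and_exists.2 ⟨fun a ha => mem_center_iff.2 fun b => Subtype.ext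
        (mem_center_iff.1 (mem_subgroupOf.1 ha) b), ⟨_, hcx, fun h => hxz (mem_subgroupOf.1 h)⟩⟩
    have h3 : 2 < Nat.card (center A) := by
      rw [← hz, ← Nat.card_congr (subgroupOfEquivOfLe hzA).toEquiv]
      by_contra hge
      exact hle.ne (eq_of_le_of_card_ge hle.le (not_lt.1 hge))
    have hd : Nat.card (center A) ∣ 8 := hA8 ▸ card_subgroup_dvd_card _
    have hq := card_eq_card_quotient_mul_card_subgroup (center A)
    rw [hA8] at hq
    have hqle : Nat.card (A ⧸ center A) ≤ 2 := by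
      by_contra h
      nlinarith [Nat.mul_le_mul (not_le.1 h) h3]
    haveI : IsCyclic (A ⧸ center A) := by
      rcases Nat.lt_or_ge (Nat.card (A ⧸ center A)) 2 with h | h
      · haveI : Subsingleton (A ⧸ center A) := Finite.card_le_one_iff_subsingleton.1 (by omega)
        infer_instance
      · exact isCyclic_of_prime_card (p := 2) (by omega)
    intro a ha b hb
    haveI := MonoidHom.isMulCommutative_of_isCyclic_of_ker_le_center (QuotientGroup.mk' (center A))
      (by rw [QuotientGroup.ker_mk'])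
    exact congrArg Subtype.val (mul_comm' (⟨a, ha⟩ : A) ⟨b, hb⟩)
  refine ⟨A, ?_, hA8⟩
  by_contra hcyc
  letI : CommGroup A := { mul_comm := fun a b => Subtype.ext (hAc a a.2 b b.2) }
  haveI : A.Normal := normal_of_index_eq_two hAi
  obtain ⟨t, ht⟩ : ∃ t, t ∉ A := by
    by_contra h
    push Not at h
    rw [index_eq_one.2 (eq_top_iff.2 fun y _ => h y)] at hAi
    omega
  let σ : A → A := fun a => ⟨t * a * t⁻¹, (inferInstance : A.Normal).conj_mem a a.2 t⟩
  have hfix : ∀ a : A, σ a = a → (a : Q) ∈ center Q := fun a ha => by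
    have h1 : t * (a : Q) = a * t := mul_inv_eq_iff_eq_mul.1 (congrArg Subtype.val ha)
    refine mem_center_iff.2 fun y => ?_
    by_cases hy : y ∈ A
    · exact hAc y hy a a.2
    · have h2 : y * t⁻¹ ∈ A := (mul_mem_iff_of_index_two hAi).2 (by rw [inv_mem_iff]; exact iff_of_false hy ht)
      have h3 := hAc _ h2 a a.2
      calc y * (a : Q) = y * t⁻¹ * (t * a) := by group
        _ = y * t⁻¹ * a * t := by rw [h1]; group
        _ = a * y := by rw [h3]; group
  have hfix2 : ∀ (S : Subgroup A), (∀ a ∈ S, σ a = a) → Nat.card S ≤ 2 := fun S hS => by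
    rw [← hz]
    exact Nat.card_le_card_of_injective (fun a : S => (⟨(a : A), hfix a (hS a a.2)⟩ : center Q))
      fun a b e => Subtype.ext (Subtype.ext (congrArg (fun w : center Q => (w : Q)) e))
  let δ : A →* A :=
    { toFun := fun a => σ a * a⁻¹
      map_one' := Subtype.ext (by simp [σ])
      map_mul' := fun a b => by
        rw [show σ (a * b) = σ a * σ b from Subtype.ext (by simp [σ, mul_assoc]), mul_inv_rev]
        ac_rfl }
  have hker : Nat.card δ.ker ≤ 2 := hfix2 _ fun a ha => mul_inv_eq_one.1 ha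
  -- squares are fixed
  have hsq : ∀ a : A, σ (a * a) = a * a := by
    let s : A →* A := { toFun := fun a => a * a, map_one' := mul_one 1, map_mul' := fun a b => mul_mul_mul_comm a b a b }
    have hs4 : 4 ≤ Nat.card s.ker := by
      obtain ⟨i, -, hi⟩ := (Nat.dvd_prime_pow Nat.prime_two).1 (show Nat.card s.ker ∣ 2 ^ 3 by
        rw [show (2 : ℕ) ^ 3 = Nat.card A by rw [hA8]; rfl]; exact card_subgroup_dvd_card _)
      by_contra hlt
      refine hcyc ?_
      have h4 : ∀ a : A, ∃ b : A, b ^ 4 ≠ 1 := fun _ => by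
        by_contra hall
        push Not at hall
        have hle : s.range ≤ s.ker := by
          rintro _ ⟨a, rfl⟩
          show a * a * (a * a) = 1
          rw [← hall a]; simp [pow_succ, mul_assoc]
        have h1 := card_eq_card_quotient_mul_card_subgroup s.ker
        rw [Nat.card_congr (QuotientGroup.quotientKerEquivRange s).toEquiv, hA8] at h1
        have h2 := card_le_of_le hle
        have : Nat.card s.ker ≤ 2 := by
          have hi2 : i < 2 := by
            by_contra h
            exact hlt (hi ▸ (Nat.pow_le_pow_right two_pos (not_lt.1 h)))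
          rw [hi]
          exact (Nat.pow_le_pow_right two_pos (Nat.le_of_lt_succ hi2)).trans_eq (pow_one 2)
        nlinarith
      obtain ⟨b, hb⟩ := h4 1
      refine isCyclic_of_orderOf_eq_card b (le_antisymm (Nat.le_of_dvd Nat.card_pos (orderOf_dvd_natCard b)) ?_)
      obtain ⟨j, hj, hbj⟩ := (Nat.dvd_prime_pow Nat.prime_two).1 (show orderOf b ∣ 2 ^ 3 by
        rw [show (2 : ℕ) ^ 3 = Nat.card A by rw [hA8]; rfl]; exact orderOf_dvd_natCard b)
      rcases Nat.lt_or_ge j 3 with h' | h'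
      · refine absurd (orderOf_dvd_iff_pow_eq_one.1 ?_) hb
        rw [hbj]
        exact pow_dvd_pow 2 (n := 2) (by omega)
      · rw [hA8, hbj, show j = 3 by omega]
        rfl
    intro a
    have h1 := card_eq_card_quotient_mul_card_subgroup s.ker
    rw [Nat.card_congr (QuotientGroup.quotientKerEquivRange s).toEquiv, hA8] at h1
    have hr2 : Nat.card s.range ≤ 2 := by nlinarith
    by_cases ha : a * a = 1
    · rw [ha]; exact Subtype.ext (by simp [σ])
    have e : σ (a * a) = σ a * σ a := Subtype.ext (by simp [σ, mul_assoc])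
    have hne : σ (a * a) ≠ 1 := fun h => ha (Subtype.ext (conj_eq_one_iff.1 (congrArg Subtype.val h)))
    by_contra hne'
    have h3 : ({1, a * a, σ (a * a)} : Finset A).card = 3 := by
      rw [Finset.card_insert_of_notMem (by simp [Ne.symm ha, Ne.symm hne]), Finset.card_insert_of_notMem
        (by simpa using Ne.symm hne'), Finset.card_singleton]
    haveI : Fintype s.range := Fintype.ofFinite _
    have h4 : ({1, a * a, σ (a * a)} : Finset A) ⊆ (Finset.univ : Finset s.range).image Subtype.val := by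
      intro y hy
      simp only [Finset.mem_insert, Finset.mem_singleton] at hy
      refine Finset.mem_image.2 ⟨⟨y, ?_⟩, Finset.mem_univ _, rfl⟩
      rcases hy with rfl | rfl | rfl
      · exact one_mem _
      · exact ⟨a, rfl⟩
      · exact ⟨σ a, e.symm⟩
    have h5 := (Finset.card_le_card h4).trans Finset.card_image_le
    rw [h3, Finset.card_univ, ← Nat.card_eq_fintype_card] at h5
    omega
  have hrange : Nat.card δ.range ≤ 2 := hfix2 _ (by
    rintro _ ⟨a, rfl⟩
    have hw2 : δ a * δ a = 1 := by rw [← map_mul]; exact (mul_inv_eq_one.2 (hsq a) : σ (a * a) * (a * a)⁻¹ = 1)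
    have ht2 : t * t ∈ A := (mul_mem_iff_of_index_two hAi).2 Iff.rfl
    have hσσ : σ (σ a) = a := Subtype.ext (by
      show t * (t * a * t⁻¹) * t⁻¹ = a
      rw [show t * (t * (a : Q) * t⁻¹) * t⁻¹ = t * t * a * (t * t)⁻¹ by group, hAc _ ht2 a a.2,
        mul_inv_cancel_right])
    show σ (σ a * a⁻¹) = δ a
    rw [show σ (σ a * a⁻¹) = σ (σ a) * (σ a)⁻¹ from Subtype.ext (by simp [σ, mul_assoc]), hσσ,
      ← inv_eq_of_mul_eq_one_right hw2]
    show a * (σ a)⁻¹ = (σ a * a⁻¹)⁻¹
    rw [mul_inv_rev, inv_inv])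
  have h1 := card_eq_card_quotient_mul_card_subgroup δ.ker
  rw [Nat.card_congr (QuotientGroup.quotientKerEquivRange δ).toEquiv, hA8] at h1
  nlinarith

section Quot

variable {H : Type u} [Group H] [Fintype H] {Z : Subgroup H} [Z.Normal] {c : Sec (H ⧸ Z)}
  {P : Subgroup (H ⧸ Z)} {A : Subgroup (H ⧸ Z)} [Fact (Nat.Prime 2)]

open Dat

/-- The extensions on an abelian subgroup of index two of a Sylow subgroup are at most two. -/
theorem card_le_two [IsMulCommutative A] {d : Dat Z} (PS : Sylow 2 (H ⧸ Z)) (hAP : A ≤ (PS : Subgroup (H ⧸ Z)))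
    (hidx : Nat.card (PS : Subgroup (H ⧸ Z)) = 2 * Nat.card A) {f : H → ℂ} (hf : d.Over A 1 f) :
    Nat.card A ≤ 2 := by
  set Ps : Subgroup (H ⧸ Z) := (PS : Subgroup (H ⧸ Z))
  have hi : (A.subgroupOf Ps).index = 2 := by
    have h1 := (A.subgroupOf Ps).card_mul_index
    rw [Nat.card_congr (subgroupOfEquivOfLe hAP).toEquiv, hidx] at h1
    exact Nat.eq_of_mul_eq_mul_left Nat.card_pos (h1.trans (mul_comm _ _))
  have hPn : Ps ≤ normalizer (A : Set (H ⧸ Z)) :=
    (normal_subgroupOf_iff_le_normalizer hAP).1 (normal_of_index_eq_two hi)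
  obtain ⟨v, hv⟩ : ∃ v : H, ∃ hP : QuotientGroup.mk' Z v ∈ Ps, QuotientGroup.mk' Z v ∉ A := by
    by_contra hno
    push Not at hno
    have : A = Ps := le_antisymm hAP fun y hy => by
      obtain ⟨v, rfl⟩ := QuotientGroup.mk'_surjective Z y
      exact hno v hy
    subst this
    have := Nat.card_pos (α := Ps)
    omega
  obtain ⟨hvP, hvA⟩ := hv
  have horb : ∀ l : A →* ℂˣ, tw l f = f ∨ tw l f = cj v f := by
    intro l
    obtain ⟨k, hk, hkf⟩ := hf.conj_in_sylow PS hAP hPn (hf.twist l)
    by_cases hkA : QuotientGroup.mk' Z k ∈ A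
    · exact Or.inl (hkf.symm.trans (hf.self_conj hkA))
    · refine Or.inr (hkf.symm.trans ?_)
      have h1 : (⟨_, hvP⟩ : Ps)⁻¹ * ⟨_, hk⟩ ∈ A.subgroupOf Ps := (mul_mem_iff_of_index_two hi).2
        (by rw [inv_mem_iff]; exact iff_of_false hvA hkA)
      have h2 : QuotientGroup.mk' Z (v⁻¹ * k) ∈ A := by rw [map_mul, map_inv]; exact h1
      rw [show k = v * (v⁻¹ * k) by group, cj_mul, (hf.conj (hPn hvP)).self_conj h2]
  letI : Fintype (A →* ℂˣ) := Fintype.ofFinite _
  rw [← card_linear]
  refine (Nat.card_le_card_of_injective (fun l : A →* ℂˣ => decide (tw l f = f)) fun k l e => hf.tw_inj ?_).trans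
    (by simp [Nat.card_eq_fintype_card])
  simp only [decide_eq_decide] at e
  rcases horb k with hk | hk <;> rcases horb l with hl | hl
  · rw [hk, hl]
  · rw [hk, e.1 hk]
  · rw [e.2 hl, hl]
  · rw [hk, hl]

/-- A Sylow subgroup of order `16` with center of order two is impossible. -/
theorem no_max_class (d : Dat Z) (PS : Sylow 2 (H ⧸ Z)) (h16 : Nat.card (PS : Subgroup (H ⧸ Z)) = 16)
    (hz : Nat.card (center (PS : Subgroup (H ⧸ Z))) = 2) : False := by
  obtain ⟨A, hA, hA8⟩ := exists_cyclic_eight h16 hz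
  haveI := hA
  set A' := A.map (PS : Subgroup (H ⧸ Z)).subtype
  haveI : IsCyclic A' := isCyclic_of_surjective ((PS : Subgroup (H ⧸ Z)).subtype.subgroupMap A)
    (MonoidHom.subgroupMap_surjective _ A)
  have hc : Nat.card A' = 8 := by rw [card_map_of_injective (Subgroup.subtype_injective _), hA8]
  obtain ⟨f, hf⟩ := Over.exists_of_cyclic d A'
  have := card_le_two PS (map_subtype_le A) (by rw [hc, h16]) hf
  rw [hc] at this
  omega

open Sec

/-- Lifting an element of the normalizer of the Sylow image. -/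
theorem lift_normalizer {p : ℕ} [Fact p.Prime] (h : Sec.Syl c p P) {x : H ⧸ Z} (hx : x ∈ c.M)
    (hxn : c.f x ∈ normalizer (Sec.im c P : Set ((H ⧸ Z) ⧸ c.R.normalCore))) :
    ∃ n ∈ c.M, n ∈ normalizer ((P ⊓ c.M : Subgroup (H ⧸ Z)) : Set (H ⧸ Z)) ∧
      ∃ a ∈ P ⊓ c.M, c.f x = c.f n * c.f a := by
  haveI := c.hR
  set Q := P ⊓ c.M
  set Y := (Sec.im c P).comap c.f ⊓ c.M
  have hQY : Q ≤ Y := le_inf (fun q hq => mem_map_of_mem _ hq) inf_le_right
  have hYidx : ¬ p ∣ Q.relIndex Y := fun hd => h.inf_idx le_rfl h.le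
    (hd.trans (Dvd.intro _ (relIndex_mul_relIndex Q Y c.M hQY inf_le_right)))
  have hxY : x ∈ normalizer (Y : Set (H ⧸ Z)) := by
    refine Cfsg.Lib.Coprime.mem_normalizer_of_conj_mem (fun y hy => ⟨?_, c.M.mul_mem (c.M.mul_mem hx hy.2) (c.M.inv_mem hx)⟩)
      (fun y hy => ⟨?_, c.M.mul_mem (c.M.mul_mem (c.M.inv_mem hx) hy.2) hx⟩)
    · show c.f (x * y * x⁻¹) ∈ Sec.im c P
      rw [map_mul, map_mul, map_inv]
      exact (mem_normalizer_iff.1 hxn _).1 hy.1
    · show c.f (x⁻¹ * y * x) ∈ Sec.im c P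
      rw [map_mul, map_mul, map_inv]
      simpa using (mem_normalizer_iff.1 (inv_mem hxn) _).1 hy.1
  set X := zpowers x ⊔ Y
  have hXn : X ≤ normalizer (Y : Set (H ⧸ Z)) := sup_le (zpowers_le.2 hxY) le_normalizer
  haveI : (Y.subgroupOf X).Normal := (normal_subgroupOf_iff_le_normalizer le_sup_right).2 hXn
  have hQX : Q ≤ X := hQY.trans le_sup_right
  let S : Sylow p (Y.subgroupOf X) := IsPGroup.toSylow (P := (Q.subgroupOf X).subgroupOf (Y.subgroupOf X))
    (IsPGroup.of_equiv (IsPGroup.of_equiv (h.pgp.to_le (inf_le_left : Q ≤ P)) (subgroupOfEquivOfLe hQX).symm)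
      (subgroupOfEquivOfLe (comap_mono hQY : Q.subgroupOf X ≤ Y.subgroupOf X)).symm)
    (by
      show ¬ p ∣ (Q.subgroupOf X).relIndex (Y.subgroupOf X)
      rwa [relIndex_subgroupOf le_sup_right])
  have hS : (S : Subgroup (Y.subgroupOf X)).map (Y.subgroupOf X).subtype = Q.subgroupOf X := by
    rw [show (S : Subgroup (Y.subgroupOf X)) = (Q.subgroupOf X).subgroupOf (Y.subgroupOf X) from rfl,
      subgroupOf_map_subtype, inf_eq_left]
    exact comap_mono hQY
  have htop := Sylow.normalizer_sup_eq_top S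
  rw [hS] at htop
  obtain ⟨n, hn, y, hy, hny⟩ := mem_sup_of_normal_right.1
    (htop ▸ mem_top (⟨x, mem_sup_left (mem_zpowers x)⟩ : X))
  have hyY : (y : H ⧸ Z) ∈ Y := hy
  obtain ⟨a, ha, hay⟩ := hyY.1
  have hXM : X ≤ c.M := sup_le (zpowers_le.2 hx) inf_le_right
  refine ⟨n, hXM n.2, mem_normalizer_iff.2 fun z => ⟨fun hz => ?_, fun hz => ?_⟩, a, ha, ?_⟩
  · exact (mem_normalizer_iff.1 hn ⟨z, hQX hz⟩).1 hz
  · have hzX : z ∈ X := by
      have := X.mul_mem (X.mul_mem (X.inv_mem n.2) (hQX hz)) n.2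
      simpa [mul_assoc] using this
    exact (mem_normalizer_iff.1 hn ⟨z, hzX⟩).2 hz
  · rw [hay, ← map_mul]
    exact congrArg c.f (congrArg Subtype.val hny).symm

/-- An elementary Sylow image of order `8` with a fixed-point-free automorphism of order `7`. -/
theorem no_eight (d : Dat Z) (h : Sec.Syl c 2 P) (h8 : Nat.card (Sec.im c P) = 8)
    (hexp : ∀ w ∈ Sec.im c P, w * w = 1)
    (hrot : ∃ r ∈ c.M, c.f r ∈ normalizer (Sec.im c P : Set ((H ⧸ Z) ⧸ c.R.normalCore)) ∧
      (∀ w ∈ Sec.im c P, c.f r ^ 7 * w * (c.f r ^ 7)⁻¹ = w) ∧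
      ∀ w ∈ Sec.im c P, c.f r * w * (c.f r)⁻¹ = w → w = 1)
    (hP : (∀ a ∈ P, ∀ b ∈ P, a * b = b * a) ∨
      ∃ PS : Sylow 2 (H ⧸ Z), P ≤ PS ∧ Nat.card (PS : Subgroup (H ⧸ Z)) ∣ 16) : False := by
  by_cases hab : ∀ a ∈ P, ∀ b ∈ P, a * b = b * a
  · exact no_elementary d h hab h8 hexp
  obtain ⟨PS, hPS, h16d⟩ := hP.resolve_left hab
  obtain ⟨x, hx, hxn, hx7, hxfree⟩ := hrot
  obtain ⟨n, hnM, hnQ, a, ha, hxa⟩ := lift_normalizer h hx hxn
  set Q := P ⊓ c.M
  have hIc : ∀ u ∈ Sec.im c P, ∀ w ∈ Sec.im c P, u * w = w * u := fun u hu w hw =>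
    calc u * w = (u * w)⁻¹ := (inv_eq_of_mul_eq_one_left (hexp _ (mul_mem hu hw))).symm
      _ = w * u := by
        rw [mul_inv_rev, inv_eq_of_mul_eq_one_left (hexp u hu), inv_eq_of_mul_eq_one_left (hexp w hw)]
  have hnact : ∀ w ∈ Sec.im c P, c.f n * w * (c.f n)⁻¹ = c.f x * w * (c.f x)⁻¹ := fun w hw => by
    rw [hxa, show c.f n * c.f a * w * (c.f n * c.f a)⁻¹ = c.f n * (c.f a * w * (c.f a)⁻¹) * (c.f n)⁻¹ by group,
      hIc _ (mem_map_of_mem _ ha) w hw, mul_inv_cancel_right]
  have hnfree : ∀ v ∈ Q, n * v * n⁻¹ = v → c.f v = 1 := fun v hv e =>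
    hxfree _ (mem_map_of_mem _ hv) (by rw [← hnact _ (mem_map_of_mem _ hv), ← map_inv, ← map_mul, ← map_mul, e])
  have hcM := card_inf_M c P
  rw [h8] at hcM
  replace hcM : Nat.card Q = 8 * Nat.card (P ⊓ c.R : Subgroup (H ⧸ Z)) := hcM
  have hQd : Nat.card Q ∣ 16 := (card_dvd_of_le (inf_le_left.trans hPS)).trans h16d
  have hR2 : Nat.card (P ⊓ c.R : Subgroup (H ⧸ Z)) = 1 ∨ Nat.card (P ⊓ c.R : Subgroup (H ⧸ Z)) = 2 := by
    rw [hcM, show (16 : ℕ) = 8 * 2 by rfl] at hQd
    exact (Nat.dvd_prime Nat.prime_two).1 ((Nat.mul_dvd_mul_iff_left (by norm_num)).1 hQd)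
  have hP16 : Nat.card (PS : Subgroup (H ⧸ Z)) = 16 ∧ P = (PS : Subgroup (H ⧸ Z)) := by
    have hd : Nat.card P ∣ 16 := (card_dvd_of_le hPS).trans h16d
    have hle : 8 ≤ Nat.card Q := by rcases hR2 with e | e <;> rw [hcM, e] <;> norm_num
    have hQP : Nat.card Q ≤ Nat.card P := card_le_of_le inf_le_left
    have h16 : Nat.card P = 16 := by
      obtain ⟨i, hi, hPi⟩ := (Nat.dvd_prime_pow Nat.prime_two).1 (show Nat.card P ∣ 2 ^ 4 from hd)
      by_contra h16'
      have hP8 : Nat.card P = 8 := by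
        rcases i with _ | _ | _ | _ | _ | i
        · rw [pow_zero] at hPi; omega
        · rw [pow_one] at hPi; omega
        · rw [show (2 : ℕ) ^ 2 = 4 from rfl] at hPi; omega
        · exact hPi
        · exact absurd hPi h16'
        · omega
      refine hab fun u hu w hw => ?_
      have hQ8 : Nat.card Q = 8 := by omega
      have hPQ : Q = P := eq_of_le_of_card_ge inf_le_left (by omega)
      have hinj : ∀ u ∈ Q, c.f u = 1 → u = 1 := fun u hu e => by
        have h1 : Nat.card (P ⊓ c.R : Subgroup (H ⧸ Z)) = 1 := by omega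
        have h2 : u ∈ P ⊓ c.R := ⟨hu.1, c.f_eq_one.1 e⟩
        rw [eq_bot_of_card_eq _ h1, mem_bot] at h2
        exact h2
      refine commutatorElement_eq_one_iff_mul_comm.1 (hinj _ ?_ ?_)
      · rw [hPQ]; exact P.mul_mem (P.mul_mem (P.mul_mem hu hw) (P.inv_mem hu)) (P.inv_mem hw)
      · rw [map_commutatorElement, commutatorElement_eq_one_iff_mul_comm]
        rw [← hPQ] at hu hw
        exact hIc _ (mem_map_of_mem _ hu) _ (mem_map_of_mem _ hw)
    have hle2 := Nat.le_of_dvd (by norm_num) h16d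
    have heq : P = (PS : Subgroup (H ⧸ Z)) := eq_of_le_of_card_ge hPS (by omega)
    exact ⟨heq ▸ h16, heq⟩
  rcases hR2 with h1 | h2
  · -- `P ∩ M` is elementary of index two
    rw [h1, mul_one] at hcM
    have hinj : ∀ u ∈ Q, c.f u = 1 → u = 1 := fun u hu e => by
      have h2 : u ∈ P ⊓ c.R := ⟨hu.1, c.f_eq_one.1 e⟩
      rw [eq_bot_of_card_eq _ h1, mem_bot] at h2
      exact h2
    haveI : IsMulCommutative Q := ⟨⟨fun u w => Subtype.ext (commutatorElement_eq_one_iff_mul_comm.1
      (hinj _ (Q.mul_mem (Q.mul_mem (Q.mul_mem u.2 w.2) (Q.inv_mem u.2)) (Q.inv_mem w.2)) (by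
        rw [map_commutatorElement, commutatorElement_eq_one_iff_mul_comm]
        exact hIc _ (mem_map_of_mem _ u.2) _ (mem_map_of_mem _ w.2))))⟩⟩
    have hinj2 : ∀ u ∈ Q, ∀ w ∈ Q, c.f u = c.f w → u = w := fun u hu w hw e =>
      mul_inv_eq_one.1 (hinj _ (Q.mul_mem hu (Q.inv_mem hw)) (by rw [map_mul, map_inv, e, mul_inv_cancel]))
    have hn7 : ∀ v ∈ Q, n ^ 7 * v * (n ^ 7)⁻¹ = v := fun v hv => by
      refine hinj2 _ ((mem_normalizer_iff.1 (pow_mem hnQ 7) v).1 hv) v hv ?_
      have hi : ∀ i : ℕ, ∀ w ∈ Sec.im c P,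
          c.f n ^ i * w * (c.f n ^ i)⁻¹ = c.f x ^ i * w * (c.f x ^ i)⁻¹ := by
        intro i
        induction i with
        | zero => intro w _; simp
        | succ i ih =>
          intro w hw
          calc c.f n ^ (i + 1) * w * (c.f n ^ (i + 1))⁻¹
              = c.f n ^ i * (c.f n * w * (c.f n)⁻¹) * (c.f n ^ i)⁻¹ := by rw [pow_succ]; group
            _ = c.f x ^ i * (c.f x * w * (c.f x)⁻¹) * (c.f x ^ i)⁻¹ := by
              rw [hnact w hw, ih _ ((mem_normalizer_iff.1 hxn w).1 hw)]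
            _ = _ := by rw [pow_succ]; group
      rw [map_mul, map_mul, map_inv, map_pow, hi 7 _ (mem_map_of_mem _ hv), hx7 _ (mem_map_of_mem _ hv)]
    obtain ⟨m, f, hf⟩ := Over.exists d Q
    obtain rfl : m = 1 := mult_one d hcM hnQ (fun v hv e => hinj v hv (hnfree v hv e)) hn7 hf
    have : Nat.card Q ≤ 2 := card_le_two PS (inf_le_left.trans hPS) (by rw [hcM, hP16.1]) hf
    omega
  · -- `P ≤ M`: the center is moved
    rw [h2] at hcM
    have hQP : Q = P := eq_of_le_of_card_ge inf_le_left (by rw [hcM]; exact (hP16.2.symm ▸ hP16.1).le)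
    set C := center P
    have hCz : Nat.card C ≠ 2 := fun e => by
      refine no_max_class d PS hP16.1 ?_
      rw [← hP16.2]; exact e
    have hC16 : Nat.card P = 16 := hP16.2.symm ▸ hP16.1
    have hPp : IsPGroup 2 P := h.pgp
    have hCle : Nat.card C ≤ 4 := by
      by_contra hgt
      refine hab ?_
      have h1 := card_eq_card_quotient_mul_card_subgroup C
      rw [hC16] at h1
      have hq : Nat.card (P ⧸ C) ≤ 3 := by
        by_contra h'
        nlinarith [Nat.mul_le_mul (not_le.1 h') (not_le.1 hgt)]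
      haveI : IsCyclic (P ⧸ C) := by
        obtain ⟨i, hi⟩ := IsPGroup.iff_card.1 (hPp.to_quotient C)
        rcases i with _ | _ | i
        · haveI : Subsingleton (P ⧸ C) := (Nat.card_eq_one_iff_unique.1 hi).1
          infer_instance
        · exact isCyclic_of_prime_card (p := 2) hi
        · exfalso
          rw [hi, pow_succ, pow_succ] at hq
          nlinarith [Nat.one_le_two_pow (n := i)]
      intro u hu w hw
      haveI := MonoidHom.isMulCommutative_of_isCyclic_of_ker_le_center (QuotientGroup.mk' C) (by rw [QuotientGroup.ker_mk'])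
      exact congrArg Subtype.val (mul_comm' (M := P) ⟨u, hu⟩ ⟨w, hw⟩)

    haveI : Nontrivial P := Finite.one_lt_card_iff_nontrivial.1 (by rw [hC16]; norm_num)
    have hC1 : 1 < Nat.card C := Finite.one_lt_card_iff_nontrivial.2 hPp.center_nontrivial
    obtain ⟨i, -, hi⟩ := (Nat.dvd_prime_pow Nat.prime_two).1
      (show Nat.card C ∣ 2 ^ 4 from (card_subgroup_dvd_card C).trans hC16.dvd)
    have hC4 : Nat.card C = 4 := by
      rcases i with _ | _ | _ | i
      · rw [pow_zero] at hi; omega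
      · rw [pow_one] at hi; omega
      · exact hi
      · rw [hi] at hCle
        have h1 := Nat.one_le_two_pow (n := i)
        rw [pow_succ, pow_succ, pow_succ] at hCle
        omega
    obtain ⟨z, hz, hzR⟩ : ∃ z ∈ C, (z : H ⧸ Z) ∉ c.R := by
      by_contra hno
      push Not at hno
      have := Nat.card_le_card_of_injective
        (fun z : C => (⟨(z : P), z.1.2, hno z z.2⟩ : (P ⊓ c.R : Subgroup (H ⧸ Z))))
        fun u w e => Subtype.ext (Subtype.ext (congrArg (fun v : (P ⊓ c.R : Subgroup (H ⧸ Z)) => (v : H ⧸ Z)) e))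
      omega
    -- `n` normalizes `P`
    rw [hQP] at hnQ
    let e : P ≃* P :=
      { toFun := fun u => ⟨n * u * n⁻¹, (mem_normalizer_iff.1 hnQ _).1 u.2⟩
        invFun := fun u => ⟨n⁻¹ * u * n, by simpa using (mem_normalizer_iff.1 (inv_mem hnQ) _).1 u.2⟩
        left_inv := fun u => Subtype.ext (by simp [mul_assoc])
        right_inv := fun u => Subtype.ext (by simp [mul_assoc])
        map_mul' := fun u w => Subtype.ext (by simp [mul_assoc]) }
    have hQz : ∀ u : P, (u : H ⧸ Z) ∈ Q := fun u => hQP.symm ▸ u.2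
    -- the image of the center has order two
    have himg : ∀ u : P, u ∈ C → c.f u = 1 ∨ c.f u = c.f z := by
      intro u hu
      by_contra hno
      push Not at hno
      let ρ : C →* (H ⧸ Z) ⧸ c.R.normalCore := (c.f.comp P.subtype).comp C.subtype
      have hk : ρ.ker.map (P.subtype.comp C.subtype) = P ⊓ c.R := by
        ext v
        constructor
        · rintro ⟨w, hw, rfl⟩
          exact ⟨w.1.2, c.f_eq_one.1 hw⟩
        · rintro ⟨hvP, hvR⟩
          have hvC : (⟨v, hvP⟩ : P) ∈ C := mem_center_iff.2 fun y => Subtype.ext (by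
            show (y : H ⧸ Z) * v = v * y
            have hy := (mem_normalizer_iff.1 (h.le_norm_inf y.2) v).1 ⟨hvP, hvR⟩
            by_contra hne
            have hv1 : v ≠ 1 := fun e => hne (by rw [e, mul_one, one_mul])
            have hs : ({1, v, (y : H ⧸ Z) * v * (y : H ⧸ Z)⁻¹} : Finset (H ⧸ Z)).card = 3 := by
              rw [Finset.card_insert_of_notMem (by simp [Ne.symm hv1, hv1, eq_comm (a := (1 : H ⧸ Z)), conj_eq_one_iff]),
                Finset.card_insert_of_notMem, Finset.card_singleton]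
              rw [Finset.mem_singleton]
              intro e
              exact hne (mul_inv_eq_iff_eq_mul.1 e.symm)
            haveI : Fintype (P ⊓ c.R : Subgroup (H ⧸ Z)) := Fintype.ofFinite _
            have hsub : ({1, v, (y : H ⧸ Z) * v * (y : H ⧸ Z)⁻¹} : Finset (H ⧸ Z)) ⊆
                (Finset.univ : Finset (P ⊓ c.R : Subgroup (H ⧸ Z))).image Subtype.val := by
              intro w hw
              simp only [Finset.mem_insert, Finset.mem_singleton] at hw
              refine Finset.mem_image.2 ⟨⟨w, ?_⟩, Finset.mem_univ _, rfl⟩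
              rcases hw with rfl | rfl | rfl
              exacts [one_mem _, ⟨hvP, hvR⟩, hy]
            have h5 := (Finset.card_le_card hsub).trans Finset.card_image_le
            rw [hs, Finset.card_univ, ← Nat.card_eq_fintype_card] at h5
            omega)
          exact ⟨⟨_, hvC⟩, c.f_eq_one.2 hvR, rfl⟩
      have hk2 : Nat.card ρ.ker = 2 := by
        rw [← h2, ← hk, card_map_of_injective]
        exact P.subtype_injective.comp C.subtype_injective
      have h1 := card_eq_card_quotient_mul_card_subgroup ρ.ker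
      rw [Nat.card_congr (QuotientGroup.quotientKerEquivRange ρ).toEquiv, hk2, hC4] at h1
      haveI : Fintype ρ.range := Fintype.ofFinite _
      have hz1 : c.f z ≠ 1 := fun e => hzR (c.f_eq_one.1 e)
      have hs : ({1, c.f z, c.f u} : Finset _).card = 3 := by
        rw [Finset.card_insert_of_notMem (by simp only [Finset.mem_insert, Finset.mem_singleton, not_or]; exact ⟨Ne.symm hz1, Ne.symm hno.1⟩),
          Finset.card_insert_of_notMem (by simpa using Ne.symm hno.2), Finset.card_singleton]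
      have hsub : ({1, c.f z, c.f u} : Finset _) ⊆ (Finset.univ : Finset ρ.range).image Subtype.val := by
        intro w hw
        simp only [Finset.mem_insert, Finset.mem_singleton] at hw
        refine Finset.mem_image.2 ⟨⟨w, ?_⟩, Finset.mem_univ _, rfl⟩
        rcases hw with rfl | rfl | rfl
        exacts [one_mem _, ⟨⟨z, hz⟩, rfl⟩, ⟨⟨u, hu⟩, rfl⟩]
      have h5 := (Finset.card_le_card hsub).trans Finset.card_image_le
      rw [hs, Finset.card_univ, ← Nat.card_eq_fintype_card] at h5
      omega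
    have hez : e z ∈ C := mem_center_iff.2 fun u => by
      obtain ⟨u, rfl⟩ := e.surjective u
      rw [← map_mul, ← map_mul, mem_center_iff.1 hz u]
    have hzI : c.f z ∈ Sec.im c P := mem_map_of_mem _ (hQz z)
    have hez' : c.f (e z : P) = c.f x * c.f z * (c.f x)⁻¹ := by
      rw [← hnact _ hzI, ← map_inv, ← map_mul, ← map_mul]
      rfl
    rcases himg (e z) hez with h' | h'
    · rw [hez', conj_eq_one_iff] at h'
      exact hzR (c.f_eq_one.1 h')
    · rw [hez'] at h'
      exact hzR (c.f_eq_one.1 (hxfree _ hzI h'))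

end Quot

end Cfsg.Lib.RamSol
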