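import Mathlib
import Cfsg.Agent.Walter.Main
import Cfsg.Agent.Walter.TypeJR
import Cfsg.Agent.GWDihedral.Main
import Cfsg.Agent.CentralIndexFour.Main
import Cfsg.Agent.Classical.Misc.SmallPSL
import Cfsg.Agent.S0262

/-!
# Simple groups with small or abelian Sylow `2`-subgroups have a good odd prime
-/

set_option autoImplicit false
set_option linter.unusedSectionVars false
set_option linter.style.haveILetI false

namespace Cfsg.Lib.RamSol

open Subgroup
open scoped commutatorElement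

universe u v

/-- An odd prime with cyclic Sylow subgroups, `3` whenever possible. -/
def GoodPrime (S : Type u) [Group S] : Prop :=
  ∃ r : ℕ, r.Prime ∧ r ≠ 2 ∧ r ∣ Nat.card S ∧ (∀ T : Sylow r S, IsCyclic (T : Subgroup S)) ∧
    (r = 3 ∨ ∃ T : Sylow 3 S, ¬ IsCyclic (T : Subgroup S))

theorem cyclic_sylow_of_equiv {S : Type u} {X : Type v} [Group S] [Finite S] [Group X] [Finite X] (e : S ≃* X)
    {r : ℕ} [Fact r.Prime] (h : ∀ T : Sylow r X, IsCyclic (T : Subgroup X)) (T : Sylow r S) :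
    IsCyclic (T : Subgroup S) := by
  haveI : IsCyclic ((T : Subgroup S).map e.toMonoidHom) :=
    h (T.mapSurjective (f := e.toMonoidHom) e.surjective)
  have e2 : (T : Subgroup S) ≃* (T : Subgroup S).map e.toMonoidHom :=
    (T : Subgroup S).equivMapOfInjective e.toMonoidHom e.injective
  exact isCyclic_of_surjective e2.symm.toMonoidHom e2.symm.surjective

theorem GoodPrime.of_equiv {S : Type u} {X : Type v} [Group S] [Finite S] [Group X] [Finite X] (e : S ≃* X)
    (h : GoodPrime X) : GoodPrime S := by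
  obtain ⟨r, hr, h2, hd, hcyc, h3⟩ := h
  haveI : Fact r.Prime := ⟨hr⟩
  haveI : Fact (Nat.Prime 3) := ⟨Nat.prime_three⟩
  refine ⟨r, hr, h2, by rwa [Nat.card_congr e.toEquiv], cyclic_sylow_of_equiv e hcyc, ?_⟩
  rcases h3 with h3 | ⟨T, hT⟩
  · exact Or.inl h3
  · refine Or.inr ?_
    by_contra hno
    push Not at hno
    exact hT (cyclic_sylow_of_equiv e.symm hno T)

/-- An odd prime divisor of a number `≥ 2` that is not a power of two. -/
theorem exists_odd_prime_dvd {q : ℕ} (hq : 4 < q) :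
    ∃ r : ℕ, r.Prime ∧ r ≠ 2 ∧ r ∣ q ^ 2 - 1 := by
  by_contra hno
  push Not at hno
  have hall : ∀ n, n ∣ q ^ 2 - 1 → n ≠ 0 → ∃ k, n = 2 ^ k := fun n hn h0 =>
    ⟨_, Nat.eq_prime_pow_of_unique_prime_dvd h0 fun {d} hd hdn => by
      by_contra h2
      exact hno d hd h2 (hdn.trans hn)⟩
  have hfac : q ^ 2 - 1 = (q + 1) * (q - 1) := by
    rw [← Nat.sq_sub_sq, one_pow]
  obtain ⟨a, ha⟩ := hall (q + 1) (hfac ▸ dvd_mul_right _ _) (by omega)
  obtain ⟨b, hb⟩ := hall (q - 1) (hfac ▸ dvd_mul_left _ _) (by omega)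
  rcases a with _ | _ | a
  · omega
  · omega
  rcases b with _ | _ | b
  · omega
  · omega
  have h4a : 4 ∣ q + 1 := ⟨2 ^ a, by rw [ha]; ring⟩
  have h4b : 4 ∣ q - 1 := ⟨2 ^ b, by rw [hb]; ring⟩
  omega

/-- `PSL(2, q)` for `q ≥ 4`. -/
theorem psl_good {F : Type} [Field F] [Fintype F] (hq : 4 ≤ Fintype.card F) :
    GoodPrime (Matrix.ProjectiveSpecialLinearGroup (Fin 2) F) := by
  classical
  obtain ⟨p, hp⟩ := CharP.exists F
  haveI := hp
  haveI : Fact p.Prime := ⟨CharP.char_is_prime F p⟩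
  haveI : Fact (Nat.Prime 3) := ⟨Nat.prime_three⟩
  obtain ⟨n, -, hn⟩ := FiniteField.card F p
  set q := Fintype.card F
  have hcard := Cfsg.Lib.Classical.SmallPSL.card_psl (F := F) (q := q) rfl
  have hdvd : ∀ r : ℕ, r.Prime → r ≠ 2 → r ∣ q * (q ^ 2 - 1) →
      r ∣ Nat.card (Matrix.ProjectiveSpecialLinearGroup (Fin 2) F) := fun r hr h2 hd => by
    rw [← hcard] at hd
    refine (hr.dvd_mul.1 hd).resolve_left fun h => h2 ?_
    exact (Nat.prime_dvd_prime_iff_eq hr Nat.prime_two).1 (h.trans (Nat.gcd_dvd_left _ _))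
  have hcyc : ∀ (r : ℕ) [Fact r.Prime], r ≠ 2 → r ≠ p →
      ∀ T : Sylow r (Matrix.ProjectiveSpecialLinearGroup (Fin 2) F), IsCyclic ↥(T : Subgroup (Matrix.ProjectiveSpecialLinearGroup (Fin 2) F)) := by
    intro r _ h2 hrp T
    obtain ⟨T₀, rfl⟩ := Sylow.mapSurjective_surjective (QuotientGroup.mk'_surjective
      (Subgroup.center (Matrix.SpecialLinearGroup (Fin 2) F))) r T
    haveI := Cfsg.Agent.S0262.result p r h2 hrp T₀
    exact isCyclic_of_surjective ((QuotientGroup.mk' _).subgroupMap (T₀ : Subgroup _))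
      (MonoidHom.subgroupMap_surjective _ _)
  by_cases hp3 : p = 3
  swap
  · refine ⟨3, Nat.prime_three, by norm_num, hdvd 3 Nat.prime_three (by norm_num) ?_,
      hcyc 3 (by norm_num) (Ne.symm hp3), Or.inl rfl⟩
    rw [Nat.dvd_iff_mod_eq_zero, Nat.mul_mod]
    have h1 : q % 3 < 3 := Nat.mod_lt _ (by norm_num)
    interval_cases hm : q % 3
    · simp
    all_goals
      have h2 : q ^ 2 % 3 = 1 := by rw [Nat.pow_mod, hm]
      have h3 : 1 ≤ q ^ 2 := Nat.one_le_pow 2 q (by omega)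
      omega
  by_cases h3 : ∀ T : Sylow 3 (Matrix.ProjectiveSpecialLinearGroup (Fin 2) F),
      IsCyclic ↥(T : Subgroup (Matrix.ProjectiveSpecialLinearGroup (Fin 2) F))
  · refine ⟨3, Nat.prime_three, by norm_num, hdvd 3 Nat.prime_three (by norm_num) ?_, h3, Or.inl rfl⟩
    exact dvd_mul_of_dvd_left (hn ▸ hp3 ▸ dvd_pow_self _ n.ne_zero) _
  push Not at h3
  have hodd : Odd q := by rw [hn, hp3]; exact Odd.pow (by decide)
  obtain ⟨r, hr, h2, hd⟩ := exists_odd_prime_dvd (lt_of_le_of_ne hq fun e => by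
    rw [← e] at hodd; exact absurd hodd (by decide))
  haveI : Fact r.Prime := ⟨hr⟩
  refine ⟨r, hr, h2, hdvd r hr h2 (dvd_mul_of_dvd_right hd _), hcyc r h2 fun e => ?_, Or.inr h3⟩
  subst e
  have h4 : r ∣ q ^ 2 := by rw [hn]; exact dvd_pow (dvd_pow_self r n.ne_zero) two_ne_zero
  have h5 := Nat.dvd_sub h4 hd
  rw [Nat.sub_sub_self (Nat.one_le_pow 2 q (by omega))] at h5
  exact hr.one_lt.ne' (Nat.dvd_one.1 h5)

/-- `A₇`. -/
theorem alt_seven_good : GoodPrime (alternatingGroup (Fin 7)) := by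
  haveI : Fact (Nat.Prime 3) := ⟨Nat.prime_three⟩
  haveI : Fact (Nat.Prime 5) := ⟨by norm_num⟩
  have hc : Nat.card (alternatingGroup (Fin 7)) = 2520 := by
    rw [nat_card_alternatingGroup, Nat.card_fin]
    rfl
  by_cases h3 : ∀ T : Sylow 3 (alternatingGroup (Fin 7)), IsCyclic ↥(T : Subgroup (alternatingGroup (Fin 7)))
  · exact ⟨3, Nat.prime_three, by norm_num, by rw [hc]; norm_num, h3, Or.inl rfl⟩
  push Not at h3
  refine ⟨5, by norm_num, by norm_num, by rw [hc]; norm_num, fun T => ?_, Or.inr h3⟩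
  refine isCyclic_of_prime_card (p := 5) ?_
  rw [T.card_eq_multiplicity, hc]
  have h1 : (2520 : ℕ) = 5 ^ 1 * 504 := by norm_num
  rw [h1, Nat.factorization_mul (by norm_num) (by norm_num), Finsupp.add_apply,
    Nat.Prime.factorization_pow (by norm_num), Finsupp.single_eq_same,
    Nat.factorization_eq_zero_of_not_dvd (by norm_num : ¬ 5 ∣ 504), add_zero, pow_one]

variable {S : Type u} [Group S] [Finite S] [IsSimpleGroup S]

/-- The abelian case: a good prime or Janko–Ree type. -/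
theorem good_or_jr (hna : ¬ IsMulCommutative S) (hab : Walter.AbTwo S) : GoodPrime S ∨ Walter.IsJR S := by
  rcases Walter.walterProp S hna hab with ⟨F, i, j, ⟨n, hn, hF⟩, ⟨e⟩⟩ | ⟨F, i, j, -, h5, ⟨e⟩⟩ | hJ
  · refine Or.inl ((psl_good (F := F) ?_).of_equiv e)
    rw [hF]
    exact le_trans (by norm_num) (Nat.pow_le_pow_right two_pos hn)
  · exact Or.inl ((psl_good (by omega)).of_equiv e)
  · exact Or.inr hJ

/-- Nonabelian Sylow `2`-subgroup with center of index four. -/
theorem good_of_index_four (hna : ¬ IsMulCommutative S) (T : Sylow 2 S)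
    (hT : ¬ IsMulCommutative (T : Subgroup S)) (hidx : (center (T : Subgroup S)).index = 4) : GoodPrime S := by
  haveI : Fact (Nat.Prime 2) := ⟨Nat.prime_two⟩
  have hz : center S = ⊥ := (IsSimpleGroup.eq_bot_or_eq_top_of_normal (center S) inferInstance).resolve_right
    fun e => hna ⟨⟨fun a b => mem_center_iff.1 (e ▸ mem_top b) a⟩⟩
  have hqs : Cfsg.IsQuasisimple S := by
    refine ⟨?_, ?_⟩
    · rw [Group.isPerfect_def]
      refine (IsSimpleGroup.eq_bot_or_eq_top_of_normal _ inferInstance).resolve_left fun e => hna ⟨⟨fun a b => ?_⟩⟩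
      have h1 : ⁅a, b⁆ ∈ commutator S := commutator_mem_commutator (mem_top a) (mem_top b)
      rw [e, mem_bot, commutatorElement_eq_one_iff_mul_comm] at h1
      exact h1
    · exact ((QuotientGroup.quotientMulEquivOfEq hz).trans QuotientGroup.quotientBot).isSimpleGroup
  obtain ⟨h8, h | ⟨h3, -⟩ | ⟨F, i, j, hodd, ⟨e⟩⟩⟩ := Cfsg.Lib.CentralFour.main Cfsg.Lib.GWD.dihedralProp
    hqs T hT hidx
  · exact alt_seven_good.of_equiv h.some
  · rw [hz, card_bot] at h3; omega
  · have e' : S ≃* Matrix.ProjectiveSpecialLinearGroup (Fin 2) F :=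
      ((QuotientGroup.quotientMulEquivOfEq hz).trans QuotientGroup.quotientBot).symm.trans e
    refine (psl_good ?_).of_equiv e'
    by_contra hlt
    have h1 := Fintype.one_lt_card (α := F)
    obtain ⟨k, hk⟩ := hodd
    have hq : Fintype.card F = 3 := by omega
    have hc := Cfsg.Lib.Classical.SmallPSL.card_psl (F := F) hq
    norm_num at hc
    have h2 : 8 ∣ Nat.card S := h8 ▸ card_subgroup_dvd_card _
    rw [Nat.card_congr e'.toEquiv] at h2
    omega

end Cfsg.Lib.RamSol
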