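import Cfsg.Agent.RamifiedSolvable.Sections
import Cfsg.Agent.RamifiedSolvable.Two
import Cfsg.Agent.RamifiedSolvable.Types

/-!
# Fully ramified quotients with small nonabelian Sylow subgroups are solvable
-/

set_option autoImplicit false
set_option linter.unusedSectionVars false
set_option linter.style.haveILetI false

namespace Cfsg.Lib.RamSol

open Subgroup

universe u

section Group

variable {G : Type u} [Group G] [Finite G] (c : Sec G) (p : ℕ) [Fact p.Prime]

/-- A Sylow subgroup of `N(M)`. -/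
theorem exists_syl : ∃ P : Subgroup G, Sec.Syl c p P := by
  obtain ⟨S⟩ : Nonempty (Sylow p (normalizer (c.M : Set G))) := inferInstance
  refine ⟨(S : Subgroup _).map (normalizer (c.M : Set G)).subtype, S.isPGroup'.map _, map_subtype_le _, ?_⟩
  rw [relIndex, subgroupOf, comap_map_eq_self_of_injective (subtype_injective _)]
  exact S.not_dvd_index

variable {c p} {P : Subgroup G}

/-- The image of `P` as a Sylow subgroup of the section. -/
theorem Sec.Syl.exists_image (h : Sec.Syl c p P) :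
    ∃ T : Sylow p c.S, (T : Subgroup c.S) = (Sec.im c P).subgroupOf c.S := by
  have hle : Sec.im c P ≤ c.S := map_mono inf_le_right
  have hidx : ¬ p ∣ (Sec.im c P).relIndex c.S := by
    intro hd
    refine h.inf_idx le_rfl h.le (hd.trans ?_)
    have e : ((P ⊓ c.M).subgroupOf c.M).map (c.f.subgroupMap c.M) = (Sec.im c P).subgroupOf c.S := by
      ext ⟨y, hy⟩
      constructor
      · rintro ⟨⟨x, hx⟩, hxP, hxy⟩
        exact ⟨x, hxP, congrArg Subtype.val hxy⟩
      · rintro ⟨x, hx, hxy⟩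
        exact ⟨⟨x, hx.2⟩, hx, Subtype.ext hxy⟩
    show ((Sec.im c P).subgroupOf c.S).index ∣ ((P ⊓ c.M).subgroupOf c.M).index
    rw [← e]
    exact index_map_dvd _ (c.f.subgroupMap_surjective c.M)
  exact ⟨IsPGroup.toSylow (IsPGroup.of_equiv ((h.pgp.to_le inf_le_left).map c.f) (subgroupOfEquivOfLe hle).symm)
    hidx, rfl⟩

/-- The Sylow subgroup in `G` has order at most `p ^ 4` if it is not abelian. -/
theorem sylow_bound {e : ℕ} (he : Nat.card G = e * e)
    (hab : p ^ 6 ∣ Nat.card G → ∀ Q : Sylow p G, IsMulCommutative (Q : Subgroup G)) (Q : Sylow p G) :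
    (∀ a ∈ (Q : Subgroup G), ∀ b ∈ (Q : Subgroup G), a * b = b * a) ∨ Nat.card (Q : Subgroup G) ∣ p ^ 4 := by
  by_cases h6 : p ^ 6 ∣ Nat.card G
  · haveI := hab h6 Q
    exact Or.inl fun a ha b hb => congrArg Subtype.val (mul_comm' (⟨a, ha⟩ : (Q : Subgroup G)) ⟨b, hb⟩)
  · refine Or.inr ?_
    have he0 : e ≠ 0 := fun h0 => Nat.card_pos.ne' (he.trans (by rw [h0]))
    rw [Q.card_eq_multiplicity]
    refine pow_dvd_pow p ?_
    by_contra hlt
    refine h6 ((pow_dvd_pow p ?_).trans (Nat.ordProj_dvd (Nat.card G) p))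
    rw [he, Nat.factorization_mul he0 he0, Finsupp.add_apply] at hlt ⊢
    omega

end Group

variable {H : Type u} [Group H] [Fintype H] {Z : Subgroup H} [Z.Normal] {c : Sec (H ⧸ Z)}

/-- An odd good prime of the section is impossible. -/
theorem no_good_prime (d : Dat Z)
    (hab : ∀ p : ℕ, p.Prime → p ^ 6 ∣ Z.index → ∀ Q : Sylow p (H ⧸ Z), IsMulCommutative (Q : Subgroup (H ⧸ Z)))
    (hg : GoodPrime c.S) : False := by
  obtain ⟨r, hr, -, hd, hcyc, h3⟩ := hg
  haveI : Fact r.Prime := ⟨hr⟩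
  obtain ⟨P, h⟩ := exists_syl c r
  obtain ⟨T, hT⟩ := h.exists_image
  have hle : Sec.im c P ≤ c.S := map_mono inf_le_right
  haveI := hcyc T
  have himc : IsCyclic (Sec.im c P) := isCyclic_of_surjective
    ((MulEquiv.subgroupCongr hT).trans (subgroupOfEquivOfLe hle)).toMonoidHom
    ((MulEquiv.subgroupCongr hT).trans (subgroupOfEquivOfLe hle)).surjective
  have hne : Sec.im c P ≠ ⊥ := fun e => by
    refine T.ne_bot_of_dvd_card hd ?_
    rw [hT, e, bot_subgroupOf]
  obtain ⟨Q, hQ⟩ := h.pgp.exists_le_sylow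
  have hB := sylow_bound (G := H ⧸ Z) (p := r) (e := d.e)
    (by rw [← index_eq_card, d.he]) (fun h6 => hab r hr (by rwa [index_eq_card])) Q
  refine no_cyclic d h (covers d h hne ?_ h3) himc hne
  exact hB.imp (fun hc a ha b hb => hc a (hQ ha) b (hQ hb)) (fun hd' => ⟨Q, hQ, hd'⟩)

/-- The quotient is solvable. -/
theorem isSolvable_quotient (d : Dat Z)
    (hab : ∀ p : ℕ, p.Prime → p ^ 6 ∣ Z.index → ∀ Q : Sylow p (H ⧸ Z), IsMulCommutative (Q : Subgroup (H ⧸ Z))) :
    Group.IsSolvable (H ⧸ Z) := by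
  classical
  by_contra hns
  obtain ⟨c⟩ := exists_sec hns
  haveI : Fact (Nat.Prime 2) := ⟨Nat.prime_two⟩
  haveI := Sec.simple_S (c := c)
  have hna := Sec.not_comm_S (c := c)
  obtain ⟨P, h⟩ := exists_syl c 2
  obtain ⟨T, hT⟩ := h.exists_image
  have hle : Sec.im c P ≤ c.S := map_mono inf_le_right
  obtain ⟨Q, hQ⟩ := h.pgp.exists_le_sylow
  have hB := sylow_bound (G := H ⧸ Z) (p := 2) (e := d.e)
    (by rw [← index_eq_card, d.he]) (fun h6 => hab 2 Nat.prime_two (by rwa [index_eq_card])) Q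
  by_cases hAb : Walter.AbTwo c.S
  · rcases good_or_jr hna hAb with hg | hJ
    · exact no_good_prime d hab hg
    obtain ⟨h8, hsq, r, hr, hr7, hrfree⟩ := (Walter.jr_facts hna hAb hJ).1 T
    have hc8 : Nat.card (Sec.im c P) = 8 := by
      rw [← h8, hT, Nat.card_congr (subgroupOfEquivOfLe hle).toEquiv]
    have hexp : ∀ w ∈ Sec.im c P, w * w = 1 := fun w hw => by
      have h1 := hsq ⟨w, hle hw⟩ (show (⟨w, hle hw⟩ : c.S) ∈ (T : Subgroup c.S) from hT ▸ mem_subgroupOf.2 hw)
      exact congrArg Subtype.val h1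
    obtain ⟨r', hr'M, hr'⟩ := r.2
    refine no_eight d h hc8 hexp ⟨r', hr'M, ?_, ?_, ?_⟩ (hB.imp
      (fun hc a ha b hb => hc a (hQ ha) b (hQ hb)) fun hd' => ⟨Q, hQ, hd'⟩)
    · rw [hr']
      refine mem_normalizer_iff.2 fun w => ?_
      constructor
      · intro hw
        have h1 := (mem_normalizer_iff.1 hr ⟨w, hle hw⟩).1 (hT ▸ mem_subgroupOf.2 hw)
        rw [hT, mem_subgroupOf] at h1
        exact h1
      · intro hw
        have hwS : w ∈ c.S := by
          have h1 := c.S.mul_mem (c.S.mul_mem (c.S.inv_mem r.2) (hle hw)) r.2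
          simpa [mul_assoc] using h1
        have h1 := (mem_normalizer_iff.1 hr ⟨w, hwS⟩).2 (hT ▸ mem_subgroupOf.2 hw)
        rw [hT, mem_subgroupOf] at h1
        exact h1
    · intro w hw
      rw [hr']
      exact congrArg Subtype.val (hr7 7 (by rw [h8]) ⟨w, hle hw⟩ (hT ▸ mem_subgroupOf.2 hw))
    · intro w hw e
      rw [hr'] at e
      have h1 := hrfree 1 (by rw [h8]; norm_num) ⟨w, hle hw⟩ (hT ▸ mem_subgroupOf.2 hw)
        (by rw [pow_one]; exact Subtype.ext e)
      exact congrArg Subtype.val h1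
  · obtain ⟨T', hT'⟩ : ∃ T' : Sylow 2 c.S, ¬ IsMulCommutative (T' : Subgroup c.S) := by
      by_contra hno
      push Not at hno
      exact hAb fun U a ha b hb => by
        haveI := hno U
        exact congrArg Subtype.val (mul_comm' (⟨a, ha⟩ : (U : Subgroup c.S)) ⟨b, hb⟩)
    have hTna : ¬ IsMulCommutative (T : Subgroup c.S) := fun hc =>
      hT' ⟨⟨fun a b => (T'.equiv T).injective (by rw [map_mul, map_mul]; exact hc.is_comm.comm _ _)⟩⟩
    have hPna : ¬ ∀ a ∈ P, ∀ b ∈ P, a * b = b * a := fun hc => hTna ⟨⟨fun a b => by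
      obtain ⟨u, hu, hua⟩ : ((a : c.S) : (H ⧸ Z) ⧸ c.R.normalCore) ∈ Sec.im c P :=
        mem_subgroupOf.1 (hT ▸ a.2)
      obtain ⟨v, hv, hvb⟩ : ((b : c.S) : (H ⧸ Z) ⧸ c.R.normalCore) ∈ Sec.im c P :=
        mem_subgroupOf.1 (hT ▸ b.2)
      refine Subtype.ext (Subtype.ext ?_)
      show ((a : c.S) : (H ⧸ Z) ⧸ c.R.normalCore) * (b : c.S) = (b : c.S) * (a : c.S)
      rw [← hua, ← hvb, ← map_mul, ← map_mul, hc u hu.1 v hv.1]⟩⟩
    rcases hB with hB | hB
    · exact hPna fun a ha b hb => hB a (hQ ha) b (hQ hb)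
    have hT16 : Nat.card (T : Subgroup c.S) ∣ Nat.card P := by
      rw [hT, Nat.card_congr (subgroupOfEquivOfLe hle).toEquiv]
      exact ((dvd_mul_right _ _).trans (Sec.card_inf_M c P).symm.dvd).trans (card_dvd_of_le inf_le_left)
    have hP16 : Nat.card P ∣ 2 ^ 4 := (card_dvd_of_le hQ).trans hB
    by_cases hidx : (center (T : Subgroup c.S)).index = 4
    · exact no_good_prime d hab (good_of_index_four hna T hTna hidx)
    -- `T` has order 16 and center of order two
    obtain ⟨i, hi, hTi⟩ := (Nat.dvd_prime_pow Nat.prime_two).1 (hT16.trans hP16)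
    set C := center (T : Subgroup c.S)
    have hci := C.card_mul_index
    haveI : Nontrivial (T : Subgroup c.S) := by
      by_contra hn
      rw [not_nontrivial_iff_subsingleton] at hn
      exact hTna ⟨⟨fun a b => Subsingleton.elim _ _⟩⟩
    obtain ⟨j, hj, hCj⟩ := (Nat.dvd_prime_pow Nat.prime_two).1 (hTi ▸ card_subgroup_dvd_card C)
    have hj1 : 1 ≤ j := by
      rcases j with _ | j
      · have := Finite.one_lt_card_iff_nontrivial.2 T.isPGroup'.center_nontrivial
        rw [hCj] at this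
        simp at this
      · omega
    have hjidx : C.index = 2 ^ (i - j) := by
      rw [hCj, hTi, ← Nat.sub_add_cancel hj, pow_add, mul_comm] at hci
      exact Nat.eq_of_mul_eq_mul_right (Nat.two_pow_pos j) hci
    have hge : 2 ≤ i - j := by
      by_contra hlt
      refine hTna ?_
      haveI : IsCyclic ((T : Subgroup c.S) ⧸ C) := by
        rcases Nat.eq_zero_or_pos (i - j) with h0 | hpos
        · haveI : Subsingleton ((T : Subgroup c.S) ⧸ C) :=
            (Nat.card_eq_one_iff_unique.1 (by rw [← index_eq_card, hjidx, h0, pow_zero])).1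
          infer_instance
        · exact isCyclic_of_prime_card (p := 2)
            (by rw [← index_eq_card, hjidx, show i - j = 1 by omega, pow_one])
      exact MonoidHom.isMulCommutative_of_isCyclic_of_ker_le_center (QuotientGroup.mk' C)
        (by rw [QuotientGroup.ker_mk'])
    have hij : i - j ≠ 2 := fun e => hidx (by rw [hjidx, e]; rfl)
    have hi4 : i = 4 := by omega
    have hj' : j = 1 := by omega
    subst hi4 hj'
    have hle16 := Nat.le_of_dvd (by norm_num) hP16
    have hPle := Nat.le_of_dvd Nat.card_pos hT16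
    have hQle := Nat.le_of_dvd (by norm_num) hB
    rw [hTi] at hPle
    have hPQ : P = (Q : Subgroup (H ⧸ Z)) := eq_of_le_of_card_ge hQ (by omega)
    have hcM := Sec.card_inf_M c P
    have hTim : Nat.card (Sec.im c P) = 2 ^ 4 := by
      rw [← hTi, hT, Nat.card_congr (subgroupOfEquivOfLe hle).toEquiv]
    have hMle : Nat.card (P ⊓ c.M : Subgroup (H ⧸ Z)) ≤ Nat.card P := card_le_of_le inf_le_left
    have hRpos := Nat.card_pos (α := (P ⊓ c.R : Subgroup (H ⧸ Z)))
    rw [hTim] at hcM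
    have hPM : P ⊓ c.M = P := eq_of_le_of_card_ge inf_le_left (by nlinarith)
    let φ : P →* (T : Subgroup c.S) :=
      { toFun := fun u => ⟨⟨c.f u, hle (mem_map_of_mem c.f (hPM.ge u.2))⟩,
          hT ▸ mem_subgroupOf.2 (mem_map_of_mem c.f (hPM.ge u.2))⟩
        map_one' := Subtype.ext (Subtype.ext (map_one c.f))
        map_mul' := fun u v => Subtype.ext (Subtype.ext (map_mul c.f _ _)) }
    have hφs : Function.Surjective φ := fun t => by
      obtain ⟨u, hu, hut⟩ : ((t : c.S) : (H ⧸ Z) ⧸ c.R.normalCore) ∈ Sec.im c P := mem_subgroupOf.1 (hT ▸ t.2)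
      exact ⟨⟨u, hu.1⟩, Subtype.ext (Subtype.ext hut)⟩
    have hPT : Nat.card P = Nat.card (T : Subgroup c.S) := by omega
    have hφb : Function.Bijective φ :=
      (Nat.bijective_iff_surjective_and_card φ).2 ⟨hφs, hPT⟩
    let ε : (Q : Subgroup (H ⧸ Z)) ≃* (T : Subgroup c.S) :=
      (MulEquiv.subgroupCongr hPQ).symm.trans (MulEquiv.ofBijective φ hφb)
    refine no_max_class d Q (by rw [Nat.card_congr ε.toEquiv, hTi]; rfl) ?_
    rw [Nat.card_congr (Subgroup.centerCongr ε).toEquiv, hCj, pow_one]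

end Cfsg.Lib.RamSol
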