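import Cfsg.Agent.RamifiedSolvable.Endgame
import Cfsg.Agent.RamifiedSolvable.Cover

/-!
# Characters over an abelian subgroup of index `p` in a Sylow subgroup
-/

set_option autoImplicit false
set_option linter.unusedSectionVars false
set_option linter.style.haveILetI false
set_option linter.style.openClassical false

namespace Cfsg.Lib.RamSol

open scoped Classical IsMulCommutative
open Subgroup Dat

universe u

variable {H : Type u} [Group H] [Fintype H] {Z : Subgroup H} [Z.Normal]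
variable {d : Dat Z} {A : Subgroup (H ⧸ Z)} [IsMulCommutative A] {m : ℕ} {f : H → ℂ}

/-- The linear characters twisting `f` to itself. -/
noncomputable def Dat.Over.stab (hf : d.Over A m f) : Subgroup (A →* ℂˣ) where
  carrier := {l | tw l f = f}
  one_mem' := tw_one hf.zero
  mul_mem' := fun {a b} ha hb => by
    show tw (a * b) f = f
    rw [← tw_mul, show tw b f = f from hb, show tw a f = f from ha]
  inv_mem' := fun {a} ha => by
    show tw a⁻¹ f = f
    conv_lhs => rw [← show tw a f = f from ha]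
    rw [tw_mul, (inv_mul_cancel a : a⁻¹ * a = 1), tw_one hf.zero]

instance Dat.Over.stab_normal (hf : d.Over A m f) : hf.stab.Normal :=
  ⟨fun x hx g => by
    rwa [show g * x * g⁻¹ = x from MonoidHom.ext fun a => by simp [mul_comm]]⟩

theorem Dat.Over.card_stab (hf : d.Over A m f) : Nat.card hf.stab = m * m := by
  letI : Fintype (A →* ℂˣ) := Fintype.ofFinite _
  rw [← hf.card_fix, ← Fintype.card_subtype, ← Nat.card_eq_fintype_card]
  rfl

theorem Dat.Over.stab_comp (hf : d.Over A m f) {y : H ⧸ Z} (hy : y ∈ normalizer (A : Set (H ⧸ Z)))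
    {l : A →* ℂˣ} (hl : l ∈ hf.stab) : l.comp (cH hy) ∈ hf.stab := by
  obtain ⟨h, rfl⟩ := QuotientGroup.mk'_surjective Z y
  obtain ⟨ν, hν⟩ := hf.exists_tw_cj hy
  have e : cj h (tw l f) = cj h f := by rw [show tw l f = f from hl]
  rw [cj_tw hy, ← hν] at e
  have e2 := congrArg (tw ν⁻¹) e
  have e3 : ν⁻¹ * l.comp (cH hy) * ν = l.comp (cH hy) := MonoidHom.ext fun a => by simp [mul_comm]
  rwa [tw_mul, tw_mul, tw_mul, e3, (inv_mul_cancel ν : ν⁻¹ * ν = 1), tw_one hf.zero] at e2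

omit [IsMulCommutative A] in
theorem cH_mul {a b : H ⧸ Z} (ha : a ∈ normalizer (A : Set (H ⧸ Z))) (hb : b ∈ normalizer (A : Set (H ⧸ Z)))
    (hab : a * b ∈ normalizer (A : Set (H ⧸ Z))) (l : A →* ℂˣ) :
    (l.comp (cH ha)).comp (cH hb) = l.comp (cH hab) :=
  MonoidHom.ext fun x => congrArg l (Subtype.ext (by
    show a * (b * x * b⁻¹) * a⁻¹ = a * b * x * (a * b)⁻¹
    group))

omit [IsMulCommutative A] in
theorem comp_cH_one (h1 : (1 : H ⧸ Z) ∈ normalizer (A : Set (H ⧸ Z))) (l : A →* ℂˣ) : l.comp (cH h1) = l :=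
  comp_cH_of_commute h1 (fun a _ => by rw [one_mul, mul_one]) l

/-- A perfect group normalizing `A` fixes `f` if the twists of `f` are few. -/
theorem fixed_perfect {p : ℕ} [Fact p.Prime] (hf : d.Over A m f)
    (hidx : Nat.card ((A →* ℂˣ) ⧸ hf.stab) = p) {L : Subgroup (H ⧸ Z)} (hL : ⁅L, L⁆ = L)
    (hLA : L ≤ normalizer (A : Set (H ⧸ Z))) : L ≤ hf.fixSub := by
  let q : (A →* ℂˣ) →* (A →* ℂˣ) ⧸ hf.stab := QuotientGroup.mk' _
  have hq : ∀ {y : H ⧸ Z} (hy : y ∈ normalizer (A : Set (H ⧸ Z))) {k l : A →* ℂˣ},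
      q k = q l → q (k.comp (cH hy)) = q (l.comp (cH hy)) := by
    intro y hy k l e
    have h1 : k⁻¹ * l ∈ hf.stab := QuotientGroup.eq.1 e
    refine QuotientGroup.eq.2 ?_
    convert hf.stab_comp hy h1 using 1
    rfl
  let T : Subgroup (H ⧸ Z) :=
    { carrier := {y | ∃ hy : y ∈ normalizer (A : Set (H ⧸ Z)), ∀ l : A →* ℂˣ, q (l.comp (cH hy)) = q l}
      one_mem' := ⟨one_mem _, fun l => congrArg q (comp_cH_one (one_mem _) l)⟩
      mul_mem' := by
        rintro a b ⟨ha, ha'⟩ ⟨hb, hb'⟩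
        exact ⟨mul_mem ha hb, fun l => by rw [← cH_mul ha hb (mul_mem ha hb), hb', ha']⟩
      inv_mem' := by
        rintro a ⟨ha, ha'⟩
        refine ⟨inv_mem ha, fun l => ?_⟩
        rw [← ha' (l.comp (cH (inv_mem ha))), cH_mul (inv_mem ha) ha (mul_mem (inv_mem ha) ha)]
        exact congrArg q (comp_cH_of_commute _ (fun x _ => by rw [inv_mul_cancel, one_mul, mul_one]) l) }
  obtain ⟨g₀, hg₀⟩ : ∃ g : (A →* ℂˣ) ⧸ hf.stab, ∀ x, x ∈ zpowers g := by
    haveI := isCyclic_of_prime_card hidx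
    exact IsCyclic.exists_generator
  obtain ⟨l₀, rfl⟩ := QuotientGroup.mk'_surjective _ g₀
  have hpow : ∀ {y : H ⧸ Z} (hy : y ∈ normalizer (A : Set (H ⧸ Z))) (l : A →* ℂˣ) (k : ℤ),
      q l = q l₀ ^ k → q (l.comp (cH hy)) = q (l₀.comp (cH hy)) ^ k := by
    intro y hy l k e
    rw [← map_zpow] at e
    rw [hq hy e, ← map_zpow]
    exact congrArg q (map_zpow (MonoidHom.compHom' (cH hy)) l₀ k)
  have hT : L ≤ T := by
    rw [← hL, commutator_le]
    intro a ha b hb
    have ha' := hLA ha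
    have hb' := hLA hb
    obtain ⟨i, hi⟩ := mem_zpowers_iff.1 (hg₀ (q (l₀.comp (cH ha'))))
    obtain ⟨j, hj⟩ := mem_zpowers_iff.1 (hg₀ (q (l₀.comp (cH hb'))))
    have hc : ∀ l : A →* ℂˣ, q ((l.comp (cH ha')).comp (cH hb')) = q ((l.comp (cH hb')).comp (cH ha')) := by
      intro l
      obtain ⟨k, hk⟩ := mem_zpowers_iff.1 (hg₀ (q l))
      have e1 : q (l.comp (cH ha')) = q l₀ ^ (i * k) := by
        rw [hpow ha' l k hk.symm, ← hi, ← zpow_mul]
      have e2 : q (l.comp (cH hb')) = q l₀ ^ (j * k) := by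
        rw [hpow hb' l k hk.symm, ← hj, ← zpow_mul]
      have f1 := hpow hb' _ _ e1
      have f2 := hpow ha' _ _ e2
      rw [f1, f2, ← hi, ← hj]
      show (q l₀ ^ j) ^ (i * k) = (q l₀ ^ i) ^ (j * k)
      rw [← zpow_mul, ← zpow_mul, mul_left_comm]
    refine ⟨hLA (hL.le (commutator_mem_commutator ha hb)), fun l => ?_⟩
    have key : ∀ (x : H ⧸ Z) (hx : x ∈ normalizer (A : Set (H ⧸ Z))), x = a * b * (b * a)⁻¹ →
        q (l.comp (cH hx)) = q l := by
      rintro x hx rfl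
      have hu : (b * a)⁻¹ ∈ normalizer (A : Set (H ⧸ Z)) := inv_mem (mul_mem hb' ha')
      have e := hc l
      rw [cH_mul ha' hb' (mul_mem ha' hb'), cH_mul hb' ha' (mul_mem hb' ha')] at e
      rw [← cH_mul (mul_mem ha' hb') hu hx, hq hu e, cH_mul (mul_mem hb' ha') hu (mul_mem (mul_mem hb' ha') hu)]
      exact congrArg q (comp_cH_of_commute _ (fun t _ => by rw [mul_inv_cancel, one_mul, mul_one]) l)
    exact key _ _ (by simp [commutatorElement_def, mul_assoc])
  intro y hy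
  revert y
  show L ≤ hf.fixSub
  rw [← hL, commutator_le]
  intro a ha b hb
  obtain ⟨a, rfl⟩ := QuotientGroup.mk'_surjective Z a
  obtain ⟨b, rfl⟩ := QuotientGroup.mk'_surjective Z b
  obtain ⟨νa, hνa⟩ := hf.exists_tw_cj (hLA ha)
  obtain ⟨νb, hνb⟩ := hf.exists_tw_cj (hLA hb)
  have key : ∀ (x : H) (hx : QuotientGroup.mk' Z x ∈ L) (z : H) (hz : QuotientGroup.mk' Z z ∈ L) (μ ν : A →* ℂˣ),
      tw μ f = cj x f → tw ν f = cj z f → cj (x * z) f = tw (μ * ν) f := by
    intro x hx z hz μ ν hμ hν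
    obtain ⟨hzn, hz'⟩ := hT hz
    have h1 : μ⁻¹ * μ.comp (cH hzn) ∈ hf.stab := QuotientGroup.eq.1 (hz' μ).symm
    rw [cj_mul, ← hμ, cj_tw hzn, ← hν, tw_mul]
    calc tw (μ.comp (cH hzn) * ν) f = tw (μ * ν * (μ⁻¹ * μ.comp (cH hzn))) f := by
          congr 1
          refine MonoidHom.ext fun t => ?_
          simp only [MonoidHom.mul_apply, MonoidHom.inv_apply]
          rw [mul_mul_mul_comm, mul_inv_cancel, one_mul, mul_comm]
      _ = tw (μ * ν) f := by rw [← tw_mul, show tw (μ⁻¹ * μ.comp (cH hzn)) f = f from h1]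
  have e1 := key a ha b hb νa νb hνa hνb
  have e2 := key b hb a ha νb νa hνb hνa
  have e3 : νb * νa = νa * νb := MonoidHom.ext fun t => mul_comm _ _
  rw [e3] at e2
  intro h hh
  rw [hf.congr (b := (a * b) * (b * a)⁻¹) (hh.trans (by simp [commutatorElement_def, map_mul, mul_inv_rev, mul_assoc])),
    cj_mul, e1, ← e2, ← cj_mul, mul_inv_cancel, cj_one]

/-- An abelian subgroup of index `p` and order `p³` of a Sylow subgroup is not stabilized by a perfect group
moving it out of itself. -/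
theorem no_three {p : ℕ} [Fact p.Prime] (d : Dat Z) (P : Sylow p (H ⧸ Z)) (hA : Nat.card A = p ^ 3)
    (hAP : A ≤ (P : Subgroup (H ⧸ Z))) (hP : Nat.card (P : Subgroup (H ⧸ Z)) = p ^ 4)
    (hPn : (P : Subgroup (H ⧸ Z)) ≤ normalizer (A : Set (H ⧸ Z))) {L : Subgroup (H ⧸ Z)} (hL : ⁅L, L⁆ = L)
    (hLA : L ≤ normalizer (A : Set (H ⧸ Z))) {u : H ⧸ Z} (huL : u ∈ L) (huP : u ∈ (P : Subgroup (H ⧸ Z)))
    (huA : u ∉ A) : False := by
  have hp : p.Prime := Fact.out
  set Ps : Subgroup (H ⧸ Z) := (P : Subgroup (H ⧸ Z))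
  haveI : (A.subgroupOf Ps).Normal := (normal_subgroupOf_iff_le_normalizer hAP).2 hPn
  have hQ : Nat.card (Ps ⧸ A.subgroupOf Ps) = p := by
    have h1 := card_eq_card_quotient_mul_card_subgroup (A.subgroupOf Ps)
    rw [hP, Nat.card_congr (subgroupOfEquivOfLe hAP).toEquiv, hA] at h1
    exact (Nat.eq_of_mul_eq_mul_right (pow_pos hp.pos 3) (by rw [← h1]; ring)).symm
  obtain ⟨v, rfl⟩ := QuotientGroup.mk'_surjective Z u
  obtain ⟨m, f, hf⟩ := Dat.Over.exists d A
  -- every character over `θ` is a conjugate under a power of `v`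
  have horb : ∀ l : A →* ℂˣ, ∃ i < p, cj (v ^ i) f = tw l f := by
    intro l
    obtain ⟨k, hk, hkf⟩ := hf.conj_in_sylow P hAP hPn (hf.twist l)
    let U : Ps ⧸ A.subgroupOf Ps := QuotientGroup.mk ⟨_, huP⟩
    have hU : U ≠ 1 := fun e => huA ((QuotientGroup.eq_one_iff (⟨_, huP⟩ : Ps)).1 e)
    have hmem : QuotientGroup.mk (⟨_, hk⟩ : Ps) ∈ Submonoid.powers U :=
      mem_powers_iff_mem_zpowers.2 (zpowers_eq_top_of_prime_card hQ hU ▸ mem_top _)
    obtain ⟨i, hi : U ^ i = _⟩ := hmem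
    refine ⟨i % p, Nat.mod_lt _ hp.pos, ?_⟩
    have hUp : U ^ p = 1 := by rw [← hQ]; exact pow_card_eq_one'
    rw [← Nat.mod_add_div i p, pow_add, pow_mul, hUp, one_pow, mul_one, ← QuotientGroup.mk_pow] at hi
    have h1 : QuotientGroup.mk' Z (v ^ (i % p))⁻¹ * QuotientGroup.mk' Z k ∈ A := by
      have := QuotientGroup.eq.1 hi
      simpa [mem_subgroupOf] using this
    have hn : QuotientGroup.mk' Z (v ^ (i % p)) ∈ normalizer (A : Set (H ⧸ Z)) := by
      rw [map_pow]; exact hPn (pow_mem huP _)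
    rw [← map_mul] at h1
    rw [← hkf, show k = v ^ (i % p) * ((v ^ (i % p))⁻¹ * k) by group, cj_mul, (hf.conj hn).self_conj h1]
  have hd : m * m ∣ p ^ 3 := by
    rw [← hf.card_stab, ← hA, ← card_linear]
    exact card_subgroup_dvd_card _
  obtain ⟨i, hi, hmi⟩ := (Nat.dvd_prime_pow hp).1 ((dvd_mul_right m m).trans hd)
  have hi1 : i ≤ 1 := by
    rw [hmi, ← pow_add, Nat.pow_dvd_pow_iff_le_right hp.one_lt] at hd
    omega
  letI : Fintype (A →* ℂˣ) := Fintype.ofFinite _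
  have hcard : Fintype.card (A →* ℂˣ) = p ^ 3 := by rw [← Nat.card_eq_fintype_card, card_linear, hA]
  interval_cases i
  · -- no nontrivial twist fixes `f`
    rw [pow_zero] at hmi
    subst hmi
    choose j hj hjf using horb
    have hinj : Function.Injective fun l => (⟨j l, hj l⟩ : Fin p) := fun k l e => hf.tw_inj (by
      rw [← hjf k, ← hjf l, show j k = j l from congrArg Fin.val e])
    have h2 := Fintype.card_le_of_injective _ hinj
    rw [hcard, Fintype.card_fin] at h2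
    exact absurd h2 (not_le.2 (by
      calc p = p ^ 1 := (pow_one p).symm
        _ < p ^ 3 := Nat.pow_lt_pow_right hp.one_lt (by norm_num)))
  · rw [pow_one] at hmi
    subst hmi
    have hidx : Nat.card ((A →* ℂˣ) ⧸ hf.stab) = m := by
      have h1 := card_eq_card_quotient_mul_card_subgroup hf.stab
      rw [hf.card_stab, Nat.card_eq_fintype_card, hcard] at h1
      exact (Nat.eq_of_mul_eq_mul_right (Nat.mul_pos hp.pos hp.pos) (by rw [← h1]; ring)).symm
    have hfix := fixed_perfect hf hidx hL hLA huL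
    have hall : ∀ l : A →* ℂˣ, l ∈ hf.stab := fun l => by
      obtain ⟨i, -, hi⟩ := horb l
      show tw l f = f
      rw [← hi]
      exact (pow_mem hfix i : _ ∈ hf.fixSub) (v ^ i) (map_pow _ _ _)
    haveI : Subsingleton ((A →* ℂˣ) ⧸ hf.stab) := ⟨fun a b => by
      obtain ⟨a, rfl⟩ := QuotientGroup.mk'_surjective _ a
      obtain ⟨b, rfl⟩ := QuotientGroup.mk'_surjective _ b
      exact QuotientGroup.eq.2 (mul_mem (inv_mem (hall a)) (hall b))⟩
    rw [Nat.card_of_subsingleton 1] at hidx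
    exact hp.ne_one hidx.symm

end Cfsg.Lib.RamSol
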