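import Mathlib
import Cfsg.Agent.Components.GenFitting
import Cfsg.Agent.RamifiedSolvable.Local

/-!
# A simple section above the solvable radical
-/

set_option autoImplicit false
set_option linter.unusedSectionVars false
set_option linter.style.haveILetI false

namespace Cfsg.Lib.RamSol

open Subgroup
open scoped commutatorElement

universe u

variable {G : Type u} [Group G] [Finite G]

/-- A nonsolvable group has a section `M/R` as required. -/
theorem exists_sec (hns : ¬ Group.IsSolvable G) : Nonempty (Sec G) := by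
  classical
  obtain ⟨R, ⟨hRn, hRs⟩, hmax⟩ : ∃ R : Subgroup G, (R.Normal ∧ Group.IsSolvable R) ∧
      ∀ N : Subgroup G, N.Normal → Group.IsSolvable N → R ≤ N → N = R := by
    obtain ⟨R, hR, hmax⟩ := (Set.toFinite {N : Subgroup G | N.Normal ∧ Group.IsSolvable N}).exists_maximal
      ⟨⊥, ⟨inferInstance, inferInstance⟩⟩
    exact ⟨R, hR, fun N h1 h2 h3 => le_antisymm (hmax ⟨h1, h2⟩ h3) h3⟩
  haveI := hRn
  haveI := hRs
  set π := QuotientGroup.mk' R
  have hπ : Function.Surjective π := QuotientGroup.mk'_surjective R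
  have htriv : ∀ N : Subgroup (G ⧸ R), N.Normal → Group.IsSolvable N → N = ⊥ := by
    intro N hN hNs
    have hs : Group.IsSolvable (N.comap π) := by
      haveI := hNs
      refine Group.isSolvable_of_ker_le_range (inclusion (fun r hr => ?_ : R ≤ N.comap π)) (π.subgroupComap N) ?_
      · show π r ∈ N
        rw [show π r = 1 from (QuotientGroup.eq_one_iff r).2 hr]
        exact one_mem _
      · intro x hx
        exact ⟨⟨x, (QuotientGroup.eq_one_iff (x : G)).1 (congrArg Subtype.val hx)⟩, rfl⟩
    have hle : R ≤ N.comap π := fun r hr => by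
      show π r ∈ N
      rw [show π r = 1 from (QuotientGroup.eq_one_iff r).2 hr]
      exact one_mem _
    have := hmax (N.comap π) inferInstance hs hle
    rw [eq_bot_iff]
    intro y hy
    obtain ⟨x, rfl⟩ := hπ y
    exact (QuotientGroup.eq_one_iff x).2 (this ▸ (show x ∈ N.comap π from hy))
  have hfit : Cfsg.fittingSubgroup (G ⧸ R) = ⊥ := htriv _
    (Cfsg.Lib.Components.normal_of_mem_sSup_normal fun N hN => hN.1) Cfsg.Lib.Components.isSolvable_fitting
  obtain ⟨K, hK⟩ : ∃ K : Subgroup (G ⧸ R), Cfsg.IsComponent K := by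
    by_contra hno
    push Not at hno
    have hlay : Cfsg.layer (G ⧸ R) = ⊥ := sSup_eq_bot.2 fun K hK => absurd hK (hno K)
    have h1 := Cfsg.Lib.Components.centralizer_genFitting_le (G := G ⧸ R)
    rw [Cfsg.generalizedFittingSubgroup, hlay, hfit, sup_bot_eq] at h1
    refine hns ((Group.isSolvable_iff_subgroup_quotient R).2 ⟨hRs, ?_⟩)
    haveI : Subsingleton (G ⧸ R) := ⟨fun a b => by
      have ha := h1 (show a ∈ centralizer ((⊥ : Subgroup (G ⧸ R)) : Set (G ⧸ R)) from
        mem_centralizer_iff.2 fun x hx => by rw [mem_bot.1 hx, one_mul, mul_one])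
      have hb := h1 (show b ∈ centralizer ((⊥ : Subgroup (G ⧸ R)) : Set (G ⧸ R)) from
        mem_centralizer_iff.2 fun x hx => by rw [mem_bot.1 hx, one_mul, mul_one])
      rw [mem_bot.1 ha, mem_bot.1 hb]⟩
    infer_instance
  have hZK : center K = ⊥ := by
    refine map_injective K.subtype_injective ?_
    rw [Subgroup.map_bot, ← le_bot_iff, ← hfit]
    haveI : IsMulCommutative (center K) := inferInstance
    letI : CommGroup (center K) := { mul_comm := mul_comm' }
    refine Cfsg.Lib.Components.le_fitting_of_subnormal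
      (Cfsg.Lib.Components.isSubnormal_map_subtype hK.1 (Subgroup.Normal.isSubnormal inferInstance)) ?_
    exact Cfsg.Lib.Components.isNilpotent_map (inferInstance : Group.IsNilpotent (center K)) K.subtype
  haveI hKs : IsSimpleGroup K := by
    haveI := hK.2.2
    exact (QuotientGroup.quotientMulEquivOfEq hZK |>.trans QuotientGroup.quotientBot).symm.isSimpleGroup
  set M := K.comap π
  have hRM : R ≤ M := fun r hr => by
    show π r ∈ K
    rw [show π r = 1 from (QuotientGroup.eq_one_iff r).2 hr]
    exact one_mem _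
  have hmapM : M.map π = K := map_comap_eq_self_of_surjective hπ K
  refine ⟨⟨R, M, hRn, hRM, ?_, ?_, ?_, ?_⟩⟩
  · intro N hRN hNM hMN
    set N' := (N.map π).subgroupOf K
    haveI : N'.Normal := ⟨fun x hx k => by
      obtain ⟨m, hm⟩ := hπ (k : G ⧸ R)
      obtain ⟨n, hn, hnx⟩ := hx
      have hmM : m ∈ M := by show π m ∈ K; rw [hm]; exact k.2
      refine ⟨m * n * m⁻¹, (mem_normalizer_iff.1 (hMN hmM) n).1 hn, ?_⟩
      simp only [map_mul, map_inv, hm, hnx]
      rfl⟩
    have hN : N = (N.map π).comap π := by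
      rw [comap_map_eq, QuotientGroup.ker_mk', sup_eq_left.2 hRN]
    have hle : N.map π ≤ K := hmapM ▸ map_mono hNM
    rcases IsSimpleGroup.eq_bot_or_eq_top_of_normal N' inferInstance with e | e
    · left
      rw [subgroupOf_eq_bot, disjoint_iff, inf_eq_left.2 hle] at e
      rw [hN, e, MonoidHom.comap_bot, QuotientGroup.ker_mk']
    · right
      rw [subgroupOf_eq_top] at e
      rw [hN, le_antisymm hle e]
  · haveI := hRn
    refine le_antisymm (sup_le (commutator_le_self M) hRM) fun m hm => ?_
    have h1 : π m ∈ ⁅M, M⁆.map π := by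
      rw [map_commutator, hmapM, Cfsg.Lib.Components.comp_perfect hK]
      exact hm
    obtain ⟨x, hx, hxm⟩ := h1
    have := mul_mem_sup hx (QuotientGroup.eq.1 hxm)
    rwa [mul_inv_cancel_left] at this
  · intro e
    refine Cfsg.Lib.Components.comp_ne_bot hK ?_
    rw [← hmapM, ← e, eq_bot_iff]
    rintro _ ⟨r, hr, rfl⟩
    exact (QuotientGroup.eq_one_iff r).2 hr
  · intro x hx hxR g hg
    have hgx : g * x = x * g := ((mem_centralizer_iff.1 hg) x (mem_zpowers x)).symm
    set e := (MulAut.conj (π g)).toMonoidHom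
    have hconj : Cfsg.IsComponent (K.map e) := Cfsg.Lib.Components.comp_conj hK (π g)
    have heq : K.map e = K := by
      by_contra hne
      have hxK : π x ∈ K.map e := ⟨π x, hx, by
        show π g * π x * (π g)⁻¹ = π x
        rw [← map_mul, hgx, map_mul, mul_inv_cancel_right]⟩
      have hcom : ⁅K, K.map e⁆ = ⊥ := by
        by_cases hle : K ≤ K.map e
        · rw [commutator_comm]
          exact Cfsg.Lib.Components.comp_commute_of_not_le hconj hK.1 fun h => hne (le_antisymm h hle)
        · exact Cfsg.Lib.Components.comp_commute_of_not_le hK hconj.1 hle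
      have hc : (⟨π x, hx⟩ : K) ∈ center K := mem_center_iff.2 fun k => Subtype.ext
        ((mem_centralizer_iff.1 ((commutator_eq_bot_iff_le_centralizer.1 hcom) k.2) (π x) hxK).symm)
      rw [hZK, mem_bot, Subtype.ext_iff] at hc
      exact hxR ((QuotientGroup.eq_one_iff x).1 hc)
    refine mem_normalizer_iff.2 fun y => ?_
    show π y ∈ K ↔ π (g * y * g⁻¹) ∈ K
    rw [map_mul, map_mul, map_inv]
    refine ⟨fun hy => heq ▸ mem_map_of_mem e hy, fun hy => ?_⟩
    obtain ⟨k, hk, hky⟩ : π g * π y * (π g)⁻¹ ∈ K.map e := heq.symm ▸ hy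
    rwa [show π y = k from ((MulAut.conj (π g)).injective hky).symm]

end Cfsg.Lib.RamSol
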